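import Cfsg.Agent.Lib.Walter.NoField.BigTorus.Data
import Cfsg.Agent.Lib.JankoThompson.Psl

/-!
# Section Z, big case: the fixed field, `|T|` and `|T₀|`

With `m = |F|` and `q₀₀ = 3 ^ (2k+1)`, `k ≥ 1`: `q = q₀₀ ^ m`, `4 |T| = q + 1`,
`4 |C_T(F)| = q₀₀ + 1`.

Owner: helper66.
-/

set_option autoImplicit false
set_option linter.unusedSectionVars false
set_option linter.style.haveILetI false

universe u

namespace Cfsg.Agent.Lib.Walter.NoField

open Subgroup Walter66 Cfsg.Agent.Lib.JankoThompson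

variable {G : Type u} [Group G] [Finite G]

theorem pslOrder_injective {a b : ℕ} (ha : 2 ≤ a) (hb : 2 ≤ b)
    (h : a * (a - 1) * (a + 1) = b * (b - 1) * (b + 1)) : a = b := by
  by_contra hne
  rcases lt_or_gt_of_ne hne with hl | hl
  · have h1 : a * (a - 1) < b * (b - 1) := Nat.mul_lt_mul'' hl (by omega)
    have h2 := Nat.mul_lt_mul'' h1 (show a + 1 < b + 1 by omega)
    omega
  · have h1 : b * (b - 1) < a * (a - 1) := Nat.mul_lt_mul'' hl (by omega)
    have h2 := Nat.mul_lt_mul'' h1 (show b + 1 < a + 1 by omega)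
    omega

theorem three_pow_odd_mod (k : ℕ) :
    3 ^ (2 * k + 1) % 8 = 3 ∧ (1 ≤ k → 27 ≤ 3 ^ (2 * k + 1)) := by
  refine ⟨?_, fun hk => ?_⟩
  · rw [pow_succ, pow_mul, Nat.mul_mod, Nat.pow_mod]
    norm_num
  · calc 27 = 3 ^ 3 := by norm_num
      _ ≤ _ := Nat.pow_le_pow_right (by norm_num) (by omega)

theorem pow_odd_mod {q₀ m : ℕ} (h : q₀ % 8 = 3) (hm : Odd m) : q₀ ^ m % 8 = 3 := by
  obtain ⟨j, rfl⟩ := hm
  rw [pow_succ, pow_mul, Nat.mul_mod, Nat.pow_mod, Nat.pow_mod q₀ 2, h]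
  norm_num

/-- The fields in the big case. -/
structure BigFields (S : Sylow 2 G) (E₀ : Subgroup G) (k : ℕ) (K K₀ : Type) [Field K] [Fintype K]
    [Field K₀] [Fintype K₀] : Prop where
  k_pos : 1 ≤ k
  card₀ : Fintype.card K₀ = 3 ^ (2 * k + 1)
  card : Fintype.card K = (3 ^ (2 * k + 1)) ^ Nat.card ↥(fieldPart S)
  psl : Nonempty (↥E₀ ≃* Matrix.ProjectiveSpecialLinearGroup (Fin 2) K)
  psl₀ : Nonempty (↥(E₀ ⊓ centralizer (fieldPart S : Set G)) ≃*
    Matrix.ProjectiveSpecialLinearGroup (Fin 2) K₀)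

namespace BigFields

variable {S : Sylow 2 G} {E₀ : Subgroup G} {k : ℕ} {K K₀ : Type} [Field K] [Fintype K]
  [Field K₀] [Fintype K₀] (B : BigFields S E₀ k K K₀)

include B

theorem card_mod₀ : Fintype.card K₀ % 8 = 3 := by rw [B.card₀]; exact (three_pow_odd_mod k).1

theorem card₀_ge : 27 ≤ Fintype.card K₀ := by rw [B.card₀]; exact (three_pow_odd_mod k).2 B.k_pos

theorem card_eq : Fintype.card K = Fintype.card K₀ ^ Nat.card ↥(fieldPart S) := by
  rw [B.card, B.card₀]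

theorem card_mod : Fintype.card K % 8 = 3 := by
  rw [B.card_eq]; exact pow_odd_mod B.card_mod₀ (odd_fieldPart S)

theorem card_ge : 27 ≤ Fintype.card K := by
  rw [B.card_eq]; exact B.card₀_ge.trans (Nat.le_self_pow Nat.card_pos.ne' _)

end BigFields

namespace Ctx

variable {S : Sylow 2 G} {u : G} {E E₀ : Subgroup G} (C : Ctx S u E E₀)
include C

theorem exists_gen_fieldPart : ∃ y ∈ fieldPart S, fieldPart S = zpowers y ∧
    orderOf y = Nat.card ↥(fieldPart S) ∧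
      centralizer (fieldPart S : Set G) = centralizer ({y} : Set G) := by
  haveI := C.isCyclic_fieldPart
  obtain ⟨⟨y, hy⟩, hgen⟩ := IsCyclic.exists_generator (α := ↥(fieldPart S))
  have he : fieldPart S = zpowers y := le_antisymm (fun x hx => by
    obtain ⟨i, hi⟩ := mem_zpowers_iff.1 (hgen ⟨x, hx⟩)
    exact mem_zpowers_iff.2 ⟨i, congrArg Subtype.val hi⟩) (zpowers_le.2 hy)
  refine ⟨y, hy, he, by rw [he, Nat.card_zpowers], ?_⟩
  conv_lhs => rw [he, zpowers_eq_closure, centralizer_closure]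

theorem exists_bigFields (hK : PropKnown.{u}) (hL : PropKnownFacts.{u}) (hO : PropOrder.{u})
    (hIH : SmallerNoField G) (hF : fieldPart S ≠ ⊥) (hb : FixedBig S E₀) :
    ∃ (k : ℕ) (K : Type) (_ : Field K) (_ : Fintype K) (K₀ : Type) (_ : Field K₀) (_ : Fintype K₀),
      BigFields S E₀ k K K₀ := by
  haveI : Fact (Nat.Prime 2) := ⟨Nat.prime_two⟩
  obtain ⟨y, hy, he, ho, hc⟩ := C.exists_gen_fieldPart
  have hy1 : y ≠ 1 := fun h => hF (by rw [he, h, zpowers_one_eq_bot])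
  obtain ⟨K, i1, i2, K₀, j1, j2, hE, -, -, h8, hq, ⟨e₀⟩, -⟩ := Cent.fixed_cases C.jr C.ord C.mem C.cent
    (fieldPart_le_centralizer S hy) (odd_orderOf_mem (odd_fieldPart S) hy)
  have h60 := fixedBig_at hb hy
  rcases fixed_shape hK hL hO hIH C hy hy1 with h12 | ⟨K₁, l1, l2, ⟨e₁⟩, h⟩
  · omega
  have hodd : Odd (Fintype.card K₀) := Nat.odd_iff.2 (by omega)
  have c₀ := Linear.two_mul_card_PSL_two_of_odd (F := K₀) hodd
  rw [← Nat.card_congr e₀.toEquiv] at c₀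
  rcases h with h5 | ⟨k, hk, hk1⟩
  · have c₁ := Linear.two_mul_card_PSL_two_of_odd (F := K₁) (by rw [h5]; decide)
    rw [← Nat.card_congr e₁.toEquiv, h5] at c₁
    omega
  have hodd₁ : Odd (Fintype.card K₁) := by rw [hk1]; exact (show Odd 3 by decide).pow
  have c₁ := Linear.two_mul_card_PSL_two_of_odd (F := K₁) hodd₁
  rw [← Nat.card_congr e₁.toEquiv, c₀] at c₁
  have hcard : Fintype.card K₀ = Fintype.card K₁ :=
    pslOrder_injective Fintype.one_lt_card Fintype.one_lt_card c₁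
  refine ⟨k, K, i1, i2, K₀, j1, j2, hk, hcard.trans hk1, ?_, hE, ?_⟩
  · rw [hq, ← hk1, ← hcard, ho]
  · rw [hc]; exact ⟨e₀⟩

variable {w : G} (hw : w ∈ (S : Subgroup G)) (hwE : w ∈ E₀) (hw1 : w ≠ 1)
include hw hwE hw1

theorem card_inf_sylow : Nat.card ↥((S : Subgroup G) ⊓ E₀) = 4 := by
  obtain ⟨v, r, T, hv⟩ := C.exists_tri_at hw hwE hw1
  have hv1 := ne_one_of_ord T.hb
  have hne := T.ne
  have h3 : w * v ≠ 1 := fun e => hne (by
    calc w = w * v * v := by rw [mul_assoc, C.sq hv, mul_one]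
      _ = v := by rw [e, one_mul])
  have he : ((S : Subgroup G) ⊓ E₀ : Subgroup G) = ({1, w, v, w * v} : Set G) := by
    ext p
    refine ⟨fun hp => ?_, ?_⟩
    · have h := C.inf_cases T hw hv hp.1 (C.conf.le hp.2)
      simpa using h
    · rintro (rfl | rfl | rfl | rfl)
      exacts [one_mem _, ⟨hw, hwE⟩, ⟨hv, T.bmem⟩, mul_mem (⟨hw, hwE⟩ : w ∈ (S : Subgroup G) ⊓ E₀)
        (⟨hv, T.bmem⟩ : v ∈ (S : Subgroup G) ⊓ E₀)]
  show Nat.card (((S : Subgroup G) ⊓ E₀ : Subgroup G) : Set G) = 4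
  rw [Nat.card_coe_set_eq, he, Set.ncard_insert_of_notMem (by
      simp only [Set.mem_insert_iff, Set.mem_singleton_iff, not_or]
      exact ⟨hw1.symm, hv1.symm, h3.symm⟩) (Set.toFinite _),
    Set.ncard_insert_of_notMem (by
      simp only [Set.mem_insert_iff, Set.mem_singleton_iff, not_or]
      exact ⟨hne, fun e => hv1 (left_eq_mul.1 e)⟩) (Set.toFinite _),
    Set.ncard_pair (fun e => hw1 (right_eq_mul.1 e))]

theorem four_mul_card_torus {k : ℕ} {K K₀ : Type} [Field K] [Fintype K] [Field K₀] [Fintype K₀]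
    (B : BigFields S E₀ k K K₀) :
    4 * Nat.card ↥(torus S u w) = Fintype.card K + 1 := by
  obtain ⟨φ⟩ := B.psl
  exact (C.card_torus hw hwE hw1 K (Or.inl B.card_mod) φ).2 (by have := B.card_mod; omega)

/-- `4 |C_T(X)| = q₁ + 1` for `X ⊆ F` with `C_{E₀}(X) ≅ PSL(2, q₁)`. -/
theorem four_mul_card_centTorus {X : Set G} (hX : X ⊆ (fieldPart S : Set G)) {K₁ : Type} [Field K₁]
    [Fintype K₁] (h8 : Fintype.card K₁ % 8 = 3)
    (e : ↥(E₀ ⊓ centralizer X) ≃* Matrix.ProjectiveSpecialLinearGroup (Fin 2) K₁) :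
    4 * Nat.card ↥(torus S u w ⊓ centralizer X) = Fintype.card K₁ + 1 := by
  set L := E₀ ⊓ centralizer X with hLdef
  have hwL : w ∈ L := mem_inf.2 ⟨hwE, mem_centralizer_iff.2 fun f hf => comm_fieldPart_sylow (hX hf) hw⟩
  set wl : ↥L := ⟨w, hwL⟩
  have hwl : orderOf (e wl) = 2 := by
    rw [MulEquiv.orderOf_eq, Subgroup.orderOf_mk]; exact C.orderOf_mem hw hw1
  have hc := Psl.card_centralizer (F := K₁) (by omega) hwl
  have hm : (centralizer ({wl} : Set ↥L)).map e.toMonoidHom =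
      centralizer ({e wl} : Set (Matrix.ProjectiveSpecialLinearGroup (Fin 2) K₁)) := by
    ext y
    obtain ⟨y, rfl⟩ := e.surjective y
    constructor
    · rintro ⟨z, hz, hzy⟩
      rw [← hzy]
      exact (Walter.Known.map_centralizer_iff e).2 hz
    · exact fun h => ⟨y, (Walter.Known.map_centralizer_iff e).1 h, rfl⟩
  rw [← hm, Subgroup.card_map_of_injective e.injective, sgnQ,
    if_pos (by omega), abs_of_nonneg (by positivity)] at hc
  have hc' : Nat.card ↥(centralizer ({wl} : Set ↥L)) = Fintype.card K₁ + 1 := by exact_mod_cast hc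
  have hS : ∀ {s : G}, s ∈ (S : Subgroup G) ⊓ E₀ → ∀ f ∈ X, f * s = s * f :=
    fun hs f hf => comm_fieldPart_sylow (hX hf) hs.1
  have hmem : ∀ a : ↥(torus S u w ⊓ centralizer X) × ↥((S : Subgroup G) ⊓ E₀), (a.1 : G) * a.2 ∈ L :=
    fun a => mem_inf.2 ⟨mul_mem (C.torus_le_E₀ hw hwE hw1 a.1.2.1) a.2.2.2,
      mem_centralizer_iff.2 fun f hf =>
        (Commute.mul_right (mem_centralizer_iff.1 a.1.2.2 f hf) (hS a.2.2 f hf)).eq⟩
  let g : ↥(torus S u w ⊓ centralizer X) × ↥((S : Subgroup G) ⊓ E₀) → ↥(centralizer ({wl} : Set ↥L)) :=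
    fun a => ⟨⟨(a.1 : G) * a.2, hmem a⟩, mem_centralizer_singleton_iff.2 (Subtype.ext
      (Commute.mul_left (C.torus_comm_pair hw hwE hw1 a.1.2.1).2 (C.comm a.2.2.1 hw)).eq)⟩
  have hg : Function.Bijective g := by
    constructor
    · rintro ⟨⟨a, ha⟩, ⟨s, hs⟩⟩ ⟨⟨b, hb⟩, ⟨s', hs'⟩⟩ h
      have h' : a * s = b * s' := congrArg (fun z => ((z.1 : ↥L) : G)) h
      have h1 : b⁻¹ * a = 1 := JRBal.eq_one_of_sq_odd (C.odd_torus hw hwE hw1)
        (mul_mem (inv_mem hb.1) ha.1) (by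
          rw [show b⁻¹ * a = s' * s⁻¹ by
            rw [eq_mul_inv_iff_mul_eq, mul_assoc, h', inv_mul_cancel_left]]
          exact C.sq (mul_mem hs'.1 (inv_mem hs.1)))
      obtain rfl : b = a := inv_mul_eq_one.1 h1
      obtain rfl : s = s' := mul_left_cancel h'
      rfl
    · rintro ⟨⟨x, hx⟩, hxw⟩
      obtain ⟨a, ha, s, hs, rfl⟩ := C.exists_mul_of_mem_E₀ hw hwE hw1 hx.1
        (congrArg Subtype.val (mem_centralizer_singleton_iff.1 hxw))
      refine ⟨(⟨a, mem_inf.2 ⟨ha, mem_centralizer_iff.2 fun f hf => ?_⟩⟩, ⟨s, hs⟩), rfl⟩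
      have h1 : Commute f (a * s) := mem_centralizer_iff.1 hx.2 f hf
      have h2 := h1.mul_right (show Commute f s from hS hs f hf).inv_right
      rw [mul_inv_cancel_right] at h2
      exact h2.eq
  have h := Nat.card_congr (Equiv.ofBijective g hg)
  rw [Nat.card_prod, C.card_inf_sylow hw hwE hw1, hc'] at h
  omega

/-- `4 |C_T(F)| = q₀₀ + 1`. -/
theorem four_mul_card_fixedTorus {k : ℕ} {K K₀ : Type} [Field K] [Fintype K] [Field K₀]
    [Fintype K₀] (B : BigFields S E₀ k K K₀) :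
    4 * Nat.card ↥(fixedTorus S u w) = Fintype.card K₀ + 1 := by
  obtain ⟨e⟩ := B.psl₀
  exact C.four_mul_card_centTorus hw hwE hw1 subset_rfl B.card_mod₀ e

theorem seven_le_fixedTorus {k : ℕ} {K K₀ : Type} [Field K] [Fintype K] [Field K₀] [Fintype K₀]
    (B : BigFields S E₀ k K K₀) : 7 ≤ Nat.card ↥(fixedTorus S u w) := by
  have h1 := C.four_mul_card_fixedTorus hw hwE hw1 B
  have h2 := B.card₀_ge
  omega

theorem fixedTorus_ne_bot {k : ℕ} {K K₀ : Type} [Field K] [Fintype K] [Field K₀] [Fintype K₀]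
    (B : BigFields S E₀ k K K₀) : fixedTorus S u w ≠ ⊥ := fun h => by
  have h1 := C.seven_le_fixedTorus hw hwE hw1 B
  rw [h, card_bot] at h1
  omega

end Ctx

end Cfsg.Agent.Lib.Walter.NoField
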