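import Cfsg.Agent.Lib.Walter.NoField.BigTorus.Free
import Cfsg.Agent.Lib.Walter.KnownFactsJR
import Cfsg.Agent.Lib.JankoThompson.GSide.TorusFun

/-!
# Section Z, big case: the characters of `U = T F`

`isTwist_lin`: linear characters of `E` restricted to `U`.  `exists_theta`: `θ (y f) = ψ (N y)`, `N`
the norm of `T` to `C_T(F)`, is a character inverted by `v`, supported on `T₀` and moved by `r`.

Owner: helper66.
-/

set_option autoImplicit false
set_option linter.unusedSectionVars false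
set_option linter.style.haveILetI false

universe u

namespace Cfsg.Agent.Lib.Walter.NoField

open Subgroup Walter66 Cfsg.Agent.Lib.JankoThompson

variable {G : Type u} [Group G] [Finite G]

/-- A linear character kills a non-commutative simple subgroup. -/
theorem lin_eq_one {E : Subgroup G} (lam : ↥E →* ℂˣ) {W : Subgroup G} (hW : W ≤ E)
    (hs : IsSimpleGroup ↥W) (hn : ¬ IsMulCommutative ↥W) {x : G} (hx : x ∈ W) :
    lam ⟨x, hW hx⟩ = 1 := by
  set μ : ↥W →* ℂˣ := lam.comp (Subgroup.inclusion hW)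
  rcases hs.eq_bot_or_eq_top_of_normal μ.ker inferInstance with e | e
  · exfalso
    refine hn ⟨⟨fun a b => ?_⟩⟩
    refine (MonoidHom.ker_eq_bot_iff μ).1 e ?_
    rw [map_mul, map_mul, mul_comm]
  · have h : (⟨x, hx⟩ : ↥W) ∈ μ.ker := e ▸ mem_top _
    exact h

namespace Ctx

variable {S : Sylow 2 G} {u : G} {E E₀ : Subgroup G} (C : Ctx S u E E₀)
include C

theorem lin_E₀ (lam : ↥E →* ℂˣ) {x : G} (hx : x ∈ E₀) : lam ⟨x, C.conf.le hx⟩ = 1 := by
  have hf := Known.jr_odd_facts C.ord C.cent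
  exact lin_eq_one lam C.conf.le hf.simple hf.nonabelian hx

variable {w : G} (hw : w ∈ (S : Subgroup G)) (hwE : w ∈ E₀) (hw1 : w ≠ 1)
include hw hwE hw1
variable {v : G} (hv : v ∈ (S : Subgroup G)) (hvE : v ∈ E₀) (hv1 : v ≠ 1) (hvw : v ≠ w)
variable {r : G} (hr : IsPairCycle S u w r) (hr3 : orderOf r = 3) (hcent : CentFixed S u w)
include hv hvE hv1 hvw hr hr3 hcent

local notation "D" => C.torusData hw hwE hw1 hv hvE hv1 hvw hr hr3 hcent

/-- Linear characters of `E` give twists. -/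
theorem isTwist_lin (lam : ↥E →* ℂˣ) :
    (D).IsTwist (lam.comp (Subgroup.inclusion (D).U_le)) where
  T_eq x hx := C.lin_E₀ lam (C.torus_le_E₀ hw hwE hw1 hx)
  r_eq x := by
    obtain ⟨y, hy, f, hf, hxe⟩ := C.exists_mul_torus hw hwE hw1 x.2
    have hrf : r * f * r⁻¹ = f := by rw [C.comm_normalizer hr.mem hf, mul_inv_cancel_right]
    have hy' := C.pairCycle_conj_torus hw hwE hw1 hr (mem_sup_left (mem_zpowers r)) hy
    have hfE := C.fieldPart_le hf
    have key : ∀ (z : G) (hz : z ∈ E₀) (e : G) (he : e ∈ E), e = z * f → lam ⟨e, he⟩ = lam ⟨f, hfE⟩ := by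
      intro z hz e he h
      subst h
      rw [show (⟨z * f, he⟩ : ↥E) = ⟨z, C.conf.le hz⟩ * ⟨f, hfE⟩ from rfl, map_mul, C.lin_E₀ lam hz,
        one_mul]
    refine (key (r * y * r⁻¹) (C.torus_le_E₀ hw hwE hw1 hy') (r * x * r⁻¹) ((D).U_le ((D).r_U x x.2))
      ?_).trans (key y (C.torus_le_E₀ hw hwE hw1 hy) x ((D).U_le x.2) hxe).symm
    rw [hxe, show r * (y * f) * r⁻¹ = r * y * r⁻¹ * (r * f * r⁻¹) by group, hrf]

set_option maxHeartbeats 1000000 in
/-- A character inverted by `v`, supported on `T₀` and moved by `r`. -/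
theorem exists_theta (hne : fixedTorus S u w ≠ ⊥)
    (hco : Nat.Coprime (Nat.card ↥(fieldPart S)) (Nat.card ↥(fixedTorus S u w)))
    (hfree : ∀ a ∈ fixedTorus S u w, Commute r a → a = 1) :
    ∃ θ : ↥(D).U →* ℂˣ, (D).IsTheta θ ∧ (D).IsFree θ ∧
      ∀ x : ↥(D).U, (x : G) ∈ fieldPart S → θ x = 1 := by
  classical
  haveI := C.isCyclic_torus hw hwE hw1
  haveI := Fintype.ofFinite ↥(fieldPart S)
  letI : CommGroup ↥(torus S u w) := IsCyclic.commGroup
  set m := Nat.card ↥(fieldPart S) with hm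
  -- the action of `F` on `T`
  let A : ↥(fieldPart S) → (↥(torus S u w) →* ↥(torus S u w)) := fun g =>
    { toFun := fun y => ⟨g * y * (g : G)⁻¹, C.conj_torus_fieldPart hw hwE hw1 g.2 y.2⟩
      map_one' := Subtype.ext (by simp)
      map_mul' := fun a b => Subtype.ext (by simp only [Subgroup.coe_mul]; group) }
  have hA : ∀ g y, ((A g y : ↥(torus S u w)) : G) = g * y * (g : G)⁻¹ := fun _ _ => rfl
  have hAA : ∀ g h y, A g (A h y) = A (g * h) y := fun g h y =>
    Subtype.ext (by simp only [hA, Subgroup.coe_mul]; group)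
  let N : ↥(torus S u w) →* ↥(torus S u w) :=
    { toFun := fun y => ∏ g, A g y
      map_one' := by simp
      map_mul' := fun a b => by simp only [map_mul, Finset.prod_mul_distrib] }
  have hN : ∀ y, N y = ∏ g, A g y := fun _ => rfl
  have hshift : ∀ h y, N (A h y) = N y := fun h y => by
    simp only [hN, hAA]
    exact Equiv.prod_comp (Equiv.mulRight h) fun g => A g y
  have hinvA : ∀ h y, A h (N y) = N y := fun h y => by
    simp only [hN, map_prod, hAA]
    exact Equiv.prod_comp (Equiv.mulLeft h) fun g => A g y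
  have hN₀ : ∀ y, ((N y : ↥(torus S u w)) : G) ∈ fixedTorus S u w := fun y =>
    mem_inf.2 ⟨(N y).2, mem_centralizer_iff.2 fun f hf => by
      have h : f * (N y : G) * f⁻¹ = (N y : G) := congrArg Subtype.val (hinvA ⟨f, hf⟩ y)
      exact mul_inv_eq_iff_eq_mul.1 h⟩
  have hfix : ∀ y : ↥(torus S u w), (y : G) ∈ fixedTorus S u w → N y = y ^ m := fun y hy => by
    have h : ∀ g, A g y = y := fun g => Subtype.ext (by
      rw [hA, mem_centralizer_iff.1 hy.2 g g.2, mul_inv_cancel_right])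
    rw [hN, Finset.prod_congr rfl (fun g _ => h g), Finset.prod_const, Finset.card_univ,
      ← Nat.card_eq_fintype_card]
  -- a commutator `c` of `r` with `T₀` and `ψ (c ^ m) ≠ 1`
  obtain ⟨a, ha, ha1⟩ : ∃ a ∈ fixedTorus S u w, a ≠ 1 := by
    by_contra h
    push Not at h
    exact hne ((eq_bot_iff_forall _).2 h)
  have hra : r * a * r⁻¹ ∈ fixedTorus S u w := (D).r_T₀ a ha
  set a' : ↥(torus S u w) := ⟨a, ha.1⟩
  set b : ↥(torus S u w) := ⟨r * a * r⁻¹, hra.1⟩
  have hcT₀ : ((b * a'⁻¹ : ↥(torus S u w)) : G) ∈ fixedTorus S u w := mul_mem hra (inv_mem ha)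
  have hcne : (b * a'⁻¹) ^ m ≠ 1 := by
    intro h
    refine ha1 (hfree a ha (mul_inv_eq_iff_eq_mul.1 ?_))
    have h2 : orderOf (b * a'⁻¹) ∣ Nat.card ↥(fixedTorus S u w) := by
      rw [← Subgroup.orderOf_coe]
      exact Subgroup.orderOf_dvd_natCard _ hcT₀
    have h1 : b * a'⁻¹ = 1 := orderOf_eq_one_iff.1
      (Nat.eq_one_of_dvd_coprimes hco (orderOf_dvd_of_pow_eq_one h) h2)
    exact congrArg Subtype.val (mul_inv_eq_one.1 h1)
  obtain ⟨ψ, hψ⟩ := CommGroup.exists_apply_ne_one_of_hasEnoughRootsOfUnity _ ℂ hcne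
  -- the projection to `T`
  choose τ hτT φ hφF hτφ using fun x : ↥(D).U => C.exists_mul_torus hw hwE hw1 x.2
  have huniq : ∀ {x : ↥(D).U} {y f : G}, y ∈ torus S u w → f ∈ fieldPart S → (x : G) = y * f →
      τ x = y := by
    intro x y f hy hf h
    have h1 : y⁻¹ * τ x ∈ torus S u w ⊓ fieldPart S := by
      refine mem_inf.2 ⟨mul_mem (inv_mem hy) (hτT x), ?_⟩
      rw [show y⁻¹ * τ x = f * (φ x)⁻¹ by
        rw [eq_mul_inv_iff_mul_eq, mul_assoc, ← hτφ x, h, inv_mul_cancel_left]]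
      exact mul_mem hf (inv_mem (hφF x))
    rw [C.torus_inf_fieldPart hw hwE hw1, mem_bot] at h1
    exact (inv_mul_eq_one.1 h1).symm
  let π : ↥(D).U →* ↥(torus S u w) := MonoidHom.mk' (fun x => N ⟨τ x, hτT x⟩) fun x x' => by
    have h : τ (x * x') = τ x * (φ x * τ x' * (φ x)⁻¹) := by
      refine huniq (mul_mem (hτT x) (C.conj_torus_fieldPart hw hwE hw1 (hφF x) (hτT x')))
        (mul_mem (hφF x) (hφF x')) ?_
      calc ((x * x' : ↥(D).U) : G) = (x : G) * x' := rfl
        _ = τ x * φ x * (τ x' * φ x') := by rw [← hτφ x, ← hτφ x']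
        _ = _ := by group
    rw [show (⟨τ (x * x'), hτT _⟩ : ↥(torus S u w)) = ⟨τ x, hτT x⟩ * A ⟨φ x, hφF x⟩ ⟨τ x', hτT x'⟩
      from Subtype.ext h, map_mul, hshift]
  have hπ : ∀ {x : ↥(D).U} {y f : G} (hy : y ∈ torus S u w), f ∈ fieldPart S → (x : G) = y * f →
      π x = N ⟨y, hy⟩ := fun {x y f} hy hf h => by
    show N ⟨τ x, hτT x⟩ = N ⟨y, hy⟩
    rw [show (⟨τ x, hτT x⟩ : ↥(torus S u w)) = ⟨y, hy⟩ from Subtype.ext (huniq hy hf h)]
  have hπT : ∀ {x : ↥(D).U} (y : ↥(torus S u w)), (x : G) = (y : G) → π x = N y := fun {x} y h =>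
    hπ y.2 (one_mem _) (by rw [h, mul_one])
  let aU : ↥(D).U := ⟨a, C.torus_le hw hwE hw1 ha.1⟩
  let bU : ↥(D).U := ⟨r * a * r⁻¹, C.torus_le hw hwE hw1 hra.1⟩
  have hmove : ψ (π bU) ≠ ψ (π aU) := by
    rw [hπT b rfl, hπT a' rfl, hfix b hra, hfix a' ha]
    intro h
    refine hψ ?_
    rw [mul_pow, inv_pow, map_mul, map_inv, h, mul_inv_cancel]
  refine ⟨ψ.comp π, ⟨fun h => hmove ?_, fun x => ?_, fun x hx => ?_⟩, ⟨aU, hmove⟩, fun x hx => ?_⟩
  · have h' := DFunLike.congr_fun h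
    exact (h' bU).trans (h' aU).symm
  · show ψ (π ((D).wU x)) = (ψ (π x))⁻¹
    have e : (((D).wU x : ↥(D).U) : G) = (τ x)⁻¹ * φ x := by
      show v * (x : G) * v⁻¹ = _
      rw [hτφ x, show v * (τ x * φ x) * v⁻¹ = v * τ x * v⁻¹ * (v * φ x * v⁻¹) by group,
        C.torus_inverted hw hwE hw1 hv hvE hv1 hvw (hτT x), ← comm_fieldPart_sylow (hφF x) hv,
        mul_inv_cancel_right]
    rw [hπ (inv_mem (hτT x)) (hφF x) e, ← map_inv]
    show ψ (N ⟨τ x, hτT x⟩⁻¹) = ψ (N ⟨τ x, hτT x⟩)⁻¹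
    rw [map_inv]
  · -- some power of `x` is `N y`
    set y : ↥(torus S u w) := ⟨τ x, hτT x⟩ with hy
    set f : ↥(fieldPart S) := ⟨φ x, hφF x⟩ with hf
    have hNy : N y ≠ 1 := fun h => hx (by show ψ (N y) = 1; rw [h, map_one])
    have hxpow : ∀ n : ℕ, (x : G) ^ n = ((∏ i ∈ Finset.range n, A (f ^ i) y : ↥(torus S u w)) : G) *
        ((f ^ n : ↥(fieldPart S)) : G) := by
      intro n
      induction n with
      | zero => simp
      | succ n ih =>
        rw [pow_succ, ih, Finset.prod_range_succ, Subgroup.coe_mul, hA, pow_succ, Subgroup.coe_mul]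
        rw [hτφ x]
        simp only [hy, hf]
        group
    set o := orderOf f
    set H := zpowers f with hH
    haveI := Fintype.ofFinite ↥H
    haveI := Fintype.ofFinite (↥(fieldPart S) ⧸ H)
    set P := ∏ h : ↥H, A (h : ↥(fieldPart S)) y with hP
    have hPx : (x : G) ^ o = (P : G) := by
      rw [hxpow, pow_orderOf_eq_one, Subgroup.coe_one, mul_one]
      congr 1
      rw [hP, Finset.prod_range (fun i => A (f ^ i) y)]
      exact Fintype.prod_equiv (finEquivZPowers (isOfFinOrder_of_finite f)) _ _ fun i => by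
        rw [finEquivZPowers_apply]
    have hNP : N y ∈ zpowers P := by
      have hbij : Function.Bijective
          (fun p : (↥(fieldPart S) ⧸ H) × ↥H => p.1.out * (p.2 : ↥(fieldPart S))) := by
        constructor
        · rintro ⟨q, h⟩ ⟨q', h'⟩ e
          have e' : q.out * (h : ↥(fieldPart S)) = q'.out * (h' : ↥(fieldPart S)) := e
          have hq : q = q' := by
            have := congrArg (QuotientGroup.mk (s := H)) e'
            rwa [QuotientGroup.mk_mul_of_mem _ h.2, QuotientGroup.mk_mul_of_mem _ h'.2,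
              QuotientGroup.out_eq', QuotientGroup.out_eq'] at this
          subst hq
          rw [Subtype.ext (mul_left_cancel e')]
        · intro g
          obtain ⟨h, hh⟩ := QuotientGroup.mk_out_eq_mul H g
          exact ⟨((g : ↥(fieldPart S) ⧸ H), h⁻¹), by
            show (QuotientGroup.mk g : ↥(fieldPart S) ⧸ H).out * ((h⁻¹ : ↥H) : ↥(fieldPart S)) = g
            rw [hh, Subgroup.coe_inv, mul_inv_cancel_right]⟩
      have hsplit : N y = ∏ q : ↥(fieldPart S) ⧸ H, A q.out P := by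
        rw [hN, ← hbij.prod_comp (fun g => A g y), Fintype.prod_prod_type]
        exact Finset.prod_congr rfl fun q _ => by simp only [hP, map_prod, hAA]
      rw [hsplit]
      refine Subgroup.prod_mem _ fun q _ => ?_
      obtain ⟨j, hj⟩ := MonoidHom.map_cyclic (A q.out)
      rw [hj]
      exact zpow_mem (mem_zpowers P) j
    obtain ⟨j, hj⟩ := (isOfFinOrder_of_finite P).mem_powers_iff_mem_zpowers.2 hNP
    refine ⟨o * j, ?_, ?_⟩ <;> rw [pow_mul, hPx, ← SubmonoidClass.coe_pow, show P ^ j = N y from hj]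
    · exact hN₀ y
    · exact fun h => hNy (Subtype.ext h)
  · show ψ (π x) = 1
    rw [hπ (one_mem _) hx (one_mul _).symm, show (⟨1, one_mem _⟩ : ↥(torus S u w)) = 1 from rfl, map_one,
      map_one]

end Ctx

end Cfsg.Agent.Lib.Walter.NoField
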