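import Cfsg.Agent.Lib.Walter.NoField.BigTorus.KleinPart
import Cfsg.Agent.Lib.Walter.NoField.BigTorus.Chars
import Cfsg.Agent.Lib.Walter.NoField.InterfaceV3
import Cfsg.Agent.Lib.Walter.NoField.Isometry
import Mathlib.FieldTheory.Finite.Basic

/-!
# Section Z, big case: the arithmetic and the subgroups at the generator `y` of the `l`-part of `F`

`exists_atY`: for a prime `l ∣ |F|` the generator `y` of the `l`-part of `F`, the field `Ky` of
`C_{E₀}(y)` and the congruences.  `conj_genSet`: the fusion in a subgroup of `C(u)` containing `y`.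

Owner: helper66.
-/

set_option autoImplicit false
set_option linter.unusedSectionVars false
set_option linter.style.haveILetI false

universe u

namespace Cfsg.Agent.Lib.Walter.NoField

open Subgroup Walter66 Cfsg.Agent.Lib.JankoThompson

variable {G : Type u} [Group G] [Finite G]

/-- Elements of the join of two elementwise commuting subgroups are products. -/
theorem exists_mul_of_comm_sup {A B : Subgroup G} (h : ∀ a ∈ A, ∀ b ∈ B, Commute a b) {g : G}
    (hg : g ∈ A ⊔ B) : ∃ a ∈ A, ∃ b ∈ B, g = a * b := by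
  have hn : A ≤ centralizer (B : Set G) := fun a ha =>
    mem_centralizer_iff.2 fun b hb => (h a ha b hb).eq.symm
  have hle : A ≤ normalizer (B : Set G) := hn.trans (centralizer_le_normalizer _)
  rw [← SetLike.mem_coe, Subgroup.coe_mul_of_left_le_normalizer_right A B hle] at hg
  obtain ⟨a, ha, b, hb, rfl⟩ := Set.mem_mul.1 hg
  exact ⟨a, ha, b, hb, rfl⟩

/-- `|A B| = |A| |B|` for a subgroup with the elements `a b`, `a ∈ A`, `b ∈ B`. -/
theorem card_of_mul {A B R : Subgroup G} (hA : A ≤ R) (hB : B ≤ R) (hd : A ⊓ B = ⊥)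
    (hR : ∀ g ∈ R, ∃ a ∈ A, ∃ b ∈ B, g = a * b) :
    Nat.card ↥R = Nat.card ↥A * Nat.card ↥B := by
  rw [← Nat.card_prod]
  refine (Nat.card_congr (Equiv.ofBijective
    (fun p : ↥A × ↥B => (⟨(p.1 : G) * p.2, mul_mem (hA p.1.2) (hB p.2.2)⟩ : ↥R)) ⟨?_, ?_⟩)).symm
  · rintro ⟨⟨a, ha⟩, ⟨b, hb⟩⟩ ⟨⟨a', ha'⟩, ⟨b', hb'⟩⟩ h
    have h' : a * b = a' * b' := congrArg Subtype.val h
    have h1 : a'⁻¹ * a ∈ A ⊓ B := by
      refine mem_inf.2 ⟨mul_mem (inv_mem ha') ha, ?_⟩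
      rw [show a'⁻¹ * a = b' * b⁻¹ by
        rw [eq_mul_inv_iff_mul_eq, mul_assoc, h', inv_mul_cancel_left]]
      exact mul_mem hb' (inv_mem hb)
    rw [hd, mem_bot] at h1
    obtain rfl : a' = a := inv_mul_eq_one.1 h1
    obtain rfl : b = b' := mul_left_cancel h'
    rfl
  · rintro ⟨g, hg⟩
    obtain ⟨a, ha, b, hb, rfl⟩ := hR g hg
    exact ⟨(⟨a, ha⟩, ⟨b, hb⟩), rfl⟩

theorem zmod_pow_prime_pow {l : ℕ} [Fact l.Prime] (x : ZMod l) : ∀ i : ℕ, x ^ l ^ i = x
  | 0 => by rw [pow_zero, pow_one]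
  | i + 1 => by rw [pow_succ, pow_mul, zmod_pow_prime_pow x i, ZMod.pow_card]

/-- The data at the generator `y` of the `l`-part of `F`; `Ky` is the field of `C_{E₀}(y)`. -/
structure AtY (S : Sylow 2 G) (u : G) (E₀ : Subgroup G) (l a : ℕ) (y : G) (K K₀ Ky : Type)
    [Fintype K] [Fintype K₀] [Field Ky] [Fintype Ky] : Prop where
  prime : l.Prime
  seven : 7 ≤ l
  pos : 1 ≤ a
  mem : y ∈ fieldPart S
  order : orderOf y = l ^ a
  full : ¬ l ∣ Nat.card ↥(fieldPart S) / l ^ a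
  psl : Nonempty (↥(E₀ ⊓ centralizer ({y} : Set G)) ≃* Matrix.ProjectiveSpecialLinearGroup (Fin 2) Ky)
  card : Fintype.card Ky = Fintype.card K₀ ^ (Nat.card ↥(fieldPart S) / l ^ a)
  card_pow : Fintype.card K = Fintype.card Ky ^ l ^ a
  mod8 : Fintype.card Ky % 8 = 3
  ge27 : 27 ≤ Fintype.card Ky
  dvd : l ∣ Fintype.card Ky ^ 2 - Fintype.card Ky + 1
  modEq : Fintype.card K ≡ Fintype.card Ky [MOD l]
  not_dvd_E₀ : ¬ l ∣ Nat.card ↥E₀
  not_dvd_fixed : ¬ l ∣ Nat.card ↥(E₀ ⊓ centralizer ({y} : Set G))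
  not_dvd_succ : ¬ l ∣ Fintype.card K + 1
  not_dvd_cent : ¬ l ^ (a + 1) ∣ Nat.card ↥(centralizer ({u} : Set G))

/-- A subgroup of the centraliser of `u` has no more than the `l`-part `l ^ a`. -/
theorem AtY.not_dvd_of_le {S : Sylow 2 G} {u : G} {E₀ : Subgroup G} {l a : ℕ} {y : G}
    {K K₀ Ky : Type} [Fintype K] [Fintype K₀] [Field Ky] [Fintype Ky]
    (A : AtY S u E₀ l a y K K₀ Ky) {H : Subgroup G} (hH : H ≤ centralizer ({u} : Set G)) :
    ¬ l ^ (a + 1) ∣ Nat.card ↥H :=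
  fun h => A.not_dvd_cent (h.trans (Subgroup.card_dvd_of_le hH))

/-- An element of `H` with the `l`-part conjugate to a generator of `⟨y⟩` is conjugate under `H` to an
element of the sections of `⟨y⟩`. -/
theorem conj_genSet {l a N : ℕ} [Fact l.Prime] {y z : G} (hy : orderOf y = l ^ a) {H : Subgroup G}
    (hyH : y ∈ H) (hH : ¬ l ^ (a + 1) ∣ Nat.card ↥H) (hz : ∀ h ∈ H, Commute z h) (hzN : z ^ N = 1)
    {h : G} (hh : h ∈ H) (hx₀ : ∃ x₀ : G, x₀⁻¹ * (z * h) * x₀ ∈ Isometry.genSet y N) :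
    ∃ x ∈ H, x⁻¹ * (z * h) * x ∈ Isometry.genSet y N := by
  obtain ⟨x₀, -, hx₀⟩ := hx₀
  set g := (z * h) ^ N with hg
  have hgH : g ∈ H := by
    rw [hg, (hz h hh).mul_pow, hzN, one_mul]
    exact pow_mem hh N
  have hgo : orderOf g = l ^ a := by
    rw [show x₀⁻¹ * (z * h) * x₀ = x₀⁻¹ * (z * h) * x₀⁻¹⁻¹ by rw [inv_inv], conj_pow] at hx₀
    rw [← Nat.card_zpowers, ← hy, ← Nat.card_zpowers, ← hx₀, Nat.card_zpowers, Nat.card_zpowers]
    exact (Involutions.Basic.orderOf_conj_eq x₀⁻¹ g).symm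
  have hl : l.Prime := Fact.out
  have hfac : (Nat.card ↥H).factorization l = a := by
    have h1 : l ^ a ∣ Nat.card ↥H := hy ▸ Subgroup.orderOf_dvd_natCard H hyH
    have h2 := (hl.pow_dvd_iff_le_factorization Nat.card_pos.ne').1 h1
    by_contra hne
    exact hH ((hl.pow_dvd_iff_le_factorization Nat.card_pos.ne').2 (by omega))
  have hcard : ∀ {g : G} (hgH : g ∈ H), orderOf g = l ^ a →
      Nat.card ↥(zpowers (⟨g, hgH⟩ : ↥H)) = l ^ (Nat.card ↥H).factorization l := fun hgH hgo => by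
    rw [hfac, Nat.card_zpowers, Subgroup.orderOf_mk, hgo]
  obtain ⟨x, hx⟩ := MulAction.exists_smul_eq ↥H (Sylow.ofCard _ (hcard hgH hgo))
    (Sylow.ofCard _ (hcard hyH hy))
  have hx' : zpowers ((x : G) * g * (x : G)⁻¹) = zpowers y := by
    have h1 := congrArg (fun P : Sylow l ↥H => ((P : Subgroup ↥H).map H.subtype)) hx
    simp only [Sylow.coe_subgroup_smul, Sylow.coe_ofCard] at h1
    change ((zpowers (⟨g, hgH⟩ : ↥H)).map (MulAut.conj x).toMonoidHom).map H.subtype =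
      (zpowers (⟨y, hyH⟩ : ↥H)).map H.subtype at h1
    rw [MonoidHom.map_zpowers, MonoidHom.map_zpowers, MonoidHom.map_zpowers] at h1
    exact h1
  refine ⟨(x : G)⁻¹, inv_mem x.2, ?_, ?_⟩
  · rw [inv_inv]
    have h1 : Commute ((x : G) * (z * h) * (x : G)⁻¹) ((x : G) * g * (x : G)⁻¹) := by
      rw [hg, ← conj_pow]
      exact (Commute.refl _).pow_right N
    obtain ⟨k, hk⟩ := mem_zpowers_iff.1 (hx' ▸ mem_zpowers y : y ∈ zpowers ((x : G) * g * (x : G)⁻¹))
    rw [mem_centralizer_singleton_iff]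
    exact hk ▸ (h1.zpow_right k).eq
  · rw [inv_inv, conj_pow, ← hg]
    exact hx'

namespace Ctx

variable {S : Sylow 2 G} {u : G} {E E₀ : Subgroup G} (C : Ctx S u E E₀)
include C

/-- For a bad prime `l ∣ |F|`: the generator of the `l`-part of `F` and its data. -/
theorem exists_atY {k : ℕ} {K K₀ : Type} [Field K] [Fintype K] [Field K₀] [Fintype K₀]
    (B : BigFields S E₀ k K K₀) (hbad : BadPrimes S E₀) {l : ℕ} (hl : l.Prime)
    (hlF : l ∣ Nat.card ↥(fieldPart S)) :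
    ∃ (a : ℕ) (y : G) (Ky : Type) (_ : Field Ky) (_ : Fintype Ky), AtY S u E₀ l a y K K₀ Ky := by
  have hfive : ∀ x : ZMod 5, x * x - x + 1 ≠ 0 := by decide
  haveI : Fact (Nat.Prime 2) := ⟨Nat.prime_two⟩
  haveI := Fact.mk hl
  obtain ⟨z, hz, -, hzo, -⟩ := C.exists_gen_fieldPart
  set m := Nat.card ↥(fieldPart S) with hm
  set a := m.factorization l with ha
  have ha1 : 1 ≤ a := (hl.dvd_iff_one_le_factorization Nat.card_pos.ne').1 hlF
  set j := m / l ^ a with hj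
  have hmj : l ^ a * j = m := Nat.ordProj_mul_ordCompl_eq_self m l
  have hlj : ¬ l ∣ j := Nat.not_dvd_ordCompl hl Nat.card_pos.ne'
  have hj0 : j ≠ 0 := fun h => hlj (by rw [h]; exact dvd_zero _)
  set y := z ^ j with hydef
  have hy : y ∈ fieldPart S := pow_mem hz j
  have hyo : orderOf y = l ^ a := by
    rw [hydef, orderOf_pow_of_dvd hj0 (by rw [hzo]; exact ⟨l ^ a, by rw [mul_comm]; exact hmj.symm⟩),
      hzo]
    conv_lhs => rw [← hmj]
    exact Nat.mul_div_cancel _ (Nat.pos_of_ne_zero hj0)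
  obtain ⟨K', i1, i2, Ky, j1, j2, ⟨e'⟩, h8', -, -, hq, hpsl, -⟩ := Cent.fixed_cases C.jr C.ord C.mem
    C.cent (fieldPart_le_centralizer S hy) (odd_orderOf_mem (odd_fieldPart S) hy)
  obtain ⟨φ⟩ := B.psl
  have hodd : Odd (Fintype.card K) := Nat.odd_iff.2 (by have := B.card_mod; omega)
  have cK := Linear.two_mul_card_PSL_two_of_odd (F := K) hodd
  have hK' : Fintype.card K' = Fintype.card K := by
    have hodd' : Odd (Fintype.card K') := Nat.odd_iff.2 (by omega)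
    refine pslOrder_injective Fintype.one_lt_card Fintype.one_lt_card ?_
    have c' := Linear.two_mul_card_PSL_two_of_odd (F := K') hodd'
    rw [← Nat.card_congr e'.toEquiv] at c'
    rw [← Nat.card_congr φ.toEquiv] at cK
    omega
  have hpow : Fintype.card K = Fintype.card Ky ^ l ^ a := by rw [← hK', hq, hyo]
  have hcard : Fintype.card Ky = Fintype.card K₀ ^ j := Nat.pow_left_injective
    (pow_ne_zero a hl.ne_zero) (by
      show Fintype.card Ky ^ l ^ a = (Fintype.card K₀ ^ j) ^ l ^ a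
      rw [← hpow, B.card_eq, ← pow_mul, mul_comm, hmj])
  have hjodd : Odd j := (odd_fieldPart S).of_dvd_nat ⟨l ^ a, by rw [mul_comm]; exact hmj.symm⟩
  have h8 : Fintype.card Ky % 8 = 3 := by rw [hcard]; exact pow_odd_mod B.card_mod₀ hjodd
  have h27 : 27 ≤ Fintype.card Ky := by
    rw [hcard]; exact B.card₀_ge.trans (Nat.le_self_pow hj0 _)
  -- the bad prime at the element of order `l`
  set x := y ^ l ^ (a - 1) with hxdef
  have hla : l ^ (a - 1) * l = l ^ a := by rw [← pow_succ, Nat.sub_add_cancel ha1]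
  have hxo : orderOf x = l := by
    rw [hxdef, orderOf_pow_of_dvd (pow_ne_zero _ hl.ne_zero) (by rw [hyo]; exact ⟨l, hla.symm⟩), hyo,
      ← hla, Nat.mul_div_cancel_left _ (pow_pos hl.pos _)]
  obtain ⟨q₀, hq₀, h5, hbd⟩ := hbad x (pow_mem hy _) l hl hxo K B.psl
  have hq₀y : q₀ = Fintype.card Ky ^ l ^ (a - 1) := Nat.pow_left_injective hl.ne_zero (by
    show q₀ ^ l = (Fintype.card Ky ^ l ^ (a - 1)) ^ l
    rw [← hq₀, hpow, ← pow_mul, hla])
  have hq₀27 : 27 ≤ q₀ := hq₀y ▸ h27.trans (Nat.le_self_pow (pow_ne_zero _ hl.ne_zero) _)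
  rw [badNum, if_neg (by omega)] at hbd
  set r : ZMod l := (Fintype.card Ky : ZMod l) with hr
  have hrq₀ : (q₀ : ZMod l) = r := by
    rw [hq₀y, Nat.cast_pow, zmod_pow_prime_pow, hr]
  have hsq : ∀ n : ℕ, n ≤ n ^ 2 := fun n => Nat.le_self_pow two_ne_zero n
  have hroot : r * r - r + 1 = 0 := by
    have h := (ZMod.natCast_eq_zero_iff _ _).2 hbd
    rw [Nat.cast_add, Nat.cast_sub (hsq q₀), Nat.cast_pow, hrq₀, Nat.cast_one, pow_two] at h
    exact h
  have h7 : 7 ≤ l := by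
    have hne5 : l ≠ 5 := by
      rintro rfl
      exact hfive r hroot
    have hne6 : l ≠ 6 := by
      rintro rfl
      exact absurd hl (by decide)
    omega
  have hone : (1 : ZMod l) ≠ 0 := one_ne_zero
  have hthree : (3 : ZMod l) ≠ 0 := fun h => by
    have := (ZMod.natCast_eq_zero_iff 3 l).1 (by exact_mod_cast h)
    have := Nat.le_of_dvd (by norm_num) this
    omega
  have hr0 : r ≠ 0 := fun h => hone (by linear_combination hroot - (r - 1) * h)
  have hr1 : r - 1 ≠ 0 := fun h => hone (by linear_combination hroot - r * h)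
  have hr2 : r + 1 ≠ 0 := fun h => hthree (by linear_combination hroot - (r - 2) * h)
  have hKr : (Fintype.card K : ZMod l) = r := by
    rw [hpow, Nat.cast_pow, zmod_pow_prime_pow, hr]
  -- the orders
  have hnd : ∀ (W : Subgroup G) (R : Type) [Field R] [Fintype R],
      (↥W ≃* Matrix.ProjectiveSpecialLinearGroup (Fin 2) R) → Odd (Fintype.card R) →
      (Fintype.card R : ZMod l) = r → ¬ l ∣ Nat.card ↥W := by
    intro W R _ _ e hR hRr hd
    have c := Linear.two_mul_card_PSL_two_of_odd (F := R) hR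
    rw [← Nat.card_congr e.toEquiv] at c
    have h := (ZMod.natCast_eq_zero_iff _ _).2 (hd.mul_left 2)
    rw [c, Nat.cast_mul, Nat.cast_mul, Nat.cast_sub Fintype.card_pos, Nat.cast_add, Nat.cast_one,
      hRr] at h
    exact mul_ne_zero (mul_ne_zero hr0 hr1) hr2 h
  obtain ⟨ey⟩ := hpsl
  have hE₀ : ¬ l ∣ Nat.card ↥E₀ := hnd E₀ K φ hodd hKr
  refine ⟨a, y, Ky, j1, j2, hl, h7, ha1, hy, hyo, hlj, ⟨ey⟩, hcard, hpow, h8, h27, ?_, ?_, hE₀,
    hnd _ Ky ey (Nat.odd_iff.2 (by omega)) rfl, ?_, ?_⟩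
  · rw [← ZMod.natCast_eq_zero_iff, Nat.cast_add, Nat.cast_sub (hsq _), Nat.cast_pow,
      Nat.cast_one, pow_two]
    exact hroot
  · rw [← ZMod.natCast_eq_natCast_iff, hKr]
  · intro h
    rw [← ZMod.natCast_eq_zero_iff, Nat.cast_add, Nat.cast_one, hKr] at h
    exact hr2 h
  · intro h
    have hsplit := C.cent.1
    rw [card_of_mul hsplit.1 hsplit.2.1 hsplit.2.2.2.1 (fun g hg =>
      exists_mul_of_comm_sup hsplit.2.2.1 (hsplit.2.2.2.2.symm ▸ hg)), Nat.card_zpowers, C.ord,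
      C.card_E, ← mul_assoc] at h
    have hl2 : ¬ l ∣ 2 := fun h2 => by have := Nat.le_of_dvd two_pos h2; omega
    have hcop : Nat.Coprime (l ^ (a + 1)) (2 * Nat.card ↥E₀) :=
      (hl.coprime_iff_not_dvd.2 fun h2 => (hl.dvd_mul.1 h2).elim hl2 hE₀).pow_left _
    have hd : l ^ (a + 1) ∣ m := hcop.dvd_of_dvd_mul_left h
    exact Nat.not_succ_le_self a ((hl.pow_dvd_iff_le_factorization Nat.card_pos.ne').1 hd)

variable {w : G} (hw : w ∈ (S : Subgroup G)) (hwE : w ∈ E₀) (hw1 : w ≠ 1)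
include hw hwE hw1

/-- `4 |C_T(y)| = q_y + 1`. -/
theorem four_mul_card_torusAt {l a : ℕ} {y : G} {K K₀ Ky : Type} [Fintype K] [Fintype K₀]
    [Field Ky] [Fintype Ky] (A : AtY S u E₀ l a y K K₀ Ky) :
    4 * Nat.card ↥(torus S u w ⊓ centralizer ({y} : Set G)) = Fintype.card Ky + 1 := by
  obtain ⟨e⟩ := A.psl
  exact C.four_mul_card_centTorus hw hwE hw1 (Set.singleton_subset_iff.2 A.mem) A.mod8 e

omit hw hwE hw1

/-- `E ⊓ C(y) = (E₀ ⊓ C(y)) F`. -/
theorem exists_mul_centE {y : G} (hy : y ∈ fieldPart S) {e : G} (he : e ∈ E) (hey : Commute e y) :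
    ∃ g ∈ E₀ ⊓ centralizer ({y} : Set G), ∃ f ∈ fieldPart S, e = g * f := by
  obtain ⟨g, hg, f, hf, rfl⟩ := C.exists_mul he
  refine ⟨g, mem_inf.2 ⟨hg, mem_centralizer_singleton_iff.2 ?_⟩, f, hf, rfl⟩
  have hfy : Commute f y := C.comm_fieldPart hf hy
  have h := (hey.mul_left hfy.inv_left).eq
  rwa [mul_inv_cancel_right] at h

theorem card_centE {y : G} (hy : y ∈ fieldPart S) :
    Nat.card ↥(E ⊓ centralizer ({y} : Set G)) =
      Nat.card ↥(E₀ ⊓ centralizer ({y} : Set G)) * Nat.card ↥(fieldPart S) :=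
  card_of_mul (inf_le_inf_right _ C.conf.le)
    (fun _ hf => mem_inf.2 ⟨C.fieldPart_le hf,
      mem_centralizer_singleton_iff.2 (C.comm_fieldPart hf hy)⟩)
    (eq_bot_iff.2 fun _ hg => C.fieldPart_inf.le ⟨hg.2, hg.1.1⟩)
    fun _ hg => C.exists_mul_centE hy hg.1 (mem_centralizer_singleton_iff.1 hg.2)

include hw hwE hw1

/-- `O ⊓ C(y) = C_T(y) F`. -/
theorem exists_mul_centCore {y : G} (hy : y ∈ fieldPart S) {o : G} (ho : o ∈ pairCore u w)
    (hoy : Commute o y) :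
    ∃ t ∈ torus S u w ⊓ centralizer ({y} : Set G), ∃ f ∈ fieldPart S, o = t * f := by
  obtain ⟨t, ht, f, hf, rfl⟩ := C.exists_mul_torus hw hwE hw1 ho
  refine ⟨t, mem_inf.2 ⟨ht, mem_centralizer_singleton_iff.2 ?_⟩, f, hf, rfl⟩
  have hfy : Commute f y := C.comm_fieldPart hf hy
  have h := (hoy.mul_left hfy.inv_left).eq
  rwa [mul_inv_cancel_right] at h

theorem card_centCore {y : G} (hy : y ∈ fieldPart S) :
    Nat.card ↥(pairCore u w ⊓ centralizer ({y} : Set G)) =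
      Nat.card ↥(torus S u w ⊓ centralizer ({y} : Set G)) * Nat.card ↥(fieldPart S) :=
  card_of_mul (inf_le_inf_right _ (C.torus_le hw hwE hw1))
    (fun _ hf => mem_inf.2 ⟨C.fieldPart_le_pairCore hw hwE hw1 hf,
      mem_centralizer_singleton_iff.2 (C.comm_fieldPart hf hy)⟩)
    (eq_bot_iff.2 fun _ hg => (C.torus_inf_fieldPart hw hwE hw1).le ⟨hg.1.1, hg.2⟩)
    fun _ hg => C.exists_mul_centCore hw hwE hw1 hy hg.1 (mem_centralizer_singleton_iff.1 hg.2)

/-- The members of `H₀ ⊓ C(y)`, `H₀ = ⟨u, w⟩ × O`: `p t f`. -/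
theorem exists_mul_centH₀ {y : G} (hy : y ∈ fieldPart S) {g : G}
    (hg : g ∈ closure ({u, w} : Set G) ⊔ pairCore u w) (hgy : Commute g y) :
    ∃ p ∈ closure ({u, w} : Set G), ∃ t ∈ torus S u w ⊓ centralizer ({y} : Set G),
      ∃ f ∈ fieldPart S, g = p * (t * f) := by
  have hcom : ∀ p ∈ closure ({u, w} : Set G), ∀ o ∈ pairCore u w, Commute p o :=
    fun p hp o ho => C.commute_closure_pair hw hwE hw1 ho hp
  obtain ⟨p, hp, o, ho, rfl⟩ := exists_mul_of_comm_sup hcom hg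
  refine ⟨p, hp, ?_⟩
  have hpy : Commute p y := hcom p hp y (C.fieldPart_le_pairCore hw hwE hw1 hy)
  have hoy := (hpy.inv_left.mul_left hgy)
  rw [inv_mul_cancel_left] at hoy
  obtain ⟨t, ht, f, hf, rfl⟩ := C.exists_mul_centCore hw hwE hw1 hy ho hoy
  exact ⟨t, ht, f, hf, rfl⟩

theorem card_centH₀ {y : G} (hy : y ∈ fieldPart S) :
    Nat.card ↥((closure ({u, w} : Set G) ⊔ pairCore u w) ⊓ centralizer ({y} : Set G)) =
      4 * (Nat.card ↥(torus S u w ⊓ centralizer ({y} : Set G)) * Nat.card ↥(fieldPart S)) := by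
  have hcom : ∀ p ∈ closure ({u, w} : Set G), ∀ o ∈ pairCore u w, Commute p o :=
    fun p hp o ho => C.commute_closure_pair hw hwE hw1 ho hp
  rw [← C.card_centCore hw hwE hw1 hy, ← C.card_closure_pair hw hwE hw1]
  refine card_of_mul (le_inf le_sup_left fun p hp => ?_) (inf_le_inf_right _ le_sup_right) ?_ ?_
  · exact mem_centralizer_singleton_iff.2
      (hcom p hp y (C.fieldPart_le_pairCore hw hwE hw1 hy)).eq
  · exact eq_bot_iff.2 fun g hg => mem_bot.2 (JRBal.eq_one_of_sq_odd (odd_pairCore u w) hg.2.1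
      (C.sq (C.closure_pair_le hw hwE hw1 hg.1)))
  · intro g hg
    obtain ⟨p, hp, t, ht, f, hf, rfl⟩ :=
      C.exists_mul_centH₀ hw hwE hw1 hy hg.1 (mem_centralizer_singleton_iff.1 hg.2)
    exact ⟨p, hp, t * f, mem_inf.2 ⟨mul_mem (C.torus_le hw hwE hw1 ht.1)
      (C.fieldPart_le_pairCore hw hwE hw1 hf), mem_centralizer_singleton_iff.2
        (Commute.mul_left (mem_centralizer_singleton_iff.1 ht.2) (C.comm_fieldPart hf hy)).eq⟩, rfl⟩

variable {v : G} (hv : v ∈ (S : Subgroup G)) (hvE : v ∈ E₀) (hv1 : v ≠ 1) (hvw : v ≠ w)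
variable {r : G} (hr : IsPairCycle S u w r) (hr3 : orderOf r = 3) (hcent : CentFixed S u w)
include hv hvE hv1 hvw hr hr3 hcent

/-- `H₀ = ⟨u, w⟩ × O` for the torus data. -/
theorem torusData_H₀ : (C.torusData hw hwE hw1 hv hvE hv1 hvw hr hr3 hcent).H₀ =
    closure ({u, w} : Set G) ⊔ pairCore u w := by
  ext g
  rw [GSide.TorusData.mem_H₀]
  constructor
  · rintro ⟨p, hp, o, ho, rfl⟩
    exact mul_mem_sup ((C.closure_pair_cases hw hwE hw1).2 hp) ho
  · intro hg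
    obtain ⟨p, hp, o, ho, rfl⟩ := exists_mul_of_comm_sup
      (fun p hp o ho => C.commute_closure_pair hw hwE hw1 ho hp) hg
    exact ⟨p, (C.closure_pair_cases hw hwE hw1).1 hp, o, ho, rfl⟩

end Ctx

end Cfsg.Agent.Lib.Walter.NoField
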