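import Cfsg.Agent.Lib.Walter.NoField.BigTorus.Fixed
import Cfsg.Agent.Lib.Walter.NoField.InterfaceV3

/-!
# Section Z, big case: `|F|` is prime to `|C_T(F)|`

For a bad prime `l ∣ |F|` with `q = q₀ ^ l`: `l ∣ q₀² - q₀ + 1`, while `l ∣ |C_T(F)|` would give
`l ∣ q₀ + 1`, so `l ∣ 3`.

Owner: helper66.
-/

set_option autoImplicit false
set_option linter.unusedSectionVars false
set_option linter.style.haveILetI false

universe u

namespace Cfsg.Agent.Lib.Walter.NoField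

open Subgroup

variable {G : Type u} [Group G] [Finite G]

namespace Ctx

variable {S : Sylow 2 G} {u : G} {E E₀ : Subgroup G} (C : Ctx S u E E₀)
include C

variable {w : G} (hw : w ∈ (S : Subgroup G)) (hwE : w ∈ E₀) (hw1 : w ≠ 1)
include hw hwE hw1

theorem coprime_fixedTorus {k : ℕ} {K K₀ : Type} [Field K] [Fintype K] [Field K₀] [Fintype K₀]
    (B : BigFields S E₀ k K K₀) (hbad : BadPrimes S E₀) :
    Nat.Coprime (Nat.card ↥(fieldPart S)) (Nat.card ↥(fixedTorus S u w)) := by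
  refine Nat.coprime_of_dvd fun l hl hlm hlT => ?_
  haveI := Fact.mk hl
  obtain ⟨⟨x, hx⟩, hxo⟩ := exists_prime_orderOf_dvd_card' l hlm
  rw [Subgroup.orderOf_mk] at hxo
  obtain ⟨q₀, hq, h5, hbd⟩ := hbad x hx l hl hxo K B.psl
  obtain ⟨j, hj⟩ := hlm
  have hj0 : j ≠ 0 := by
    rintro rfl
    rw [mul_zero] at hj
    exact Nat.card_pos.ne' hj
  have hjodd : Odd j := Odd.of_dvd_nat (odd_fieldPart S) ⟨l, by rw [hj, mul_comm]⟩
  have hq₀ : q₀ = Fintype.card K₀ ^ j := Nat.pow_left_injective hl.ne_zero (by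
    show q₀ ^ l = (Fintype.card K₀ ^ j) ^ l
    rw [← hq, B.card_eq, hj, mul_comm, pow_mul])
  have h27 := B.card₀_ge
  have hq27 : 27 ≤ q₀ := hq₀ ▸ h27.trans (Nat.le_self_pow hj0 _)
  have h1 : l ∣ Fintype.card K₀ + 1 := by
    rw [← C.four_mul_card_fixedTorus hw hwE hw1 B]
    exact hlT.trans (dvd_mul_left _ 4)
  have h2 : l ∣ q₀ + 1 := by
    have := Odd.nat_add_dvd_pow_add_pow (Fintype.card K₀) 1 hjodd
    rw [one_pow, ← hq₀] at this
    exact h1.trans this
  rw [badNum, if_neg (by omega)] at hbd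
  have hsq : q₀ ≤ q₀ ^ 2 := Nat.le_self_pow two_ne_zero _
  have h3 : l ∣ 3 * q₀ := by
    refine (Nat.dvd_add_right hbd).1 ?_
    have : q₀ ^ 2 - q₀ + 1 + 3 * q₀ = (q₀ + 1) * (q₀ + 1) := by
      zify [hsq]; ring
    rw [this]
    exact h2.mul_right _
  rcases hl.dvd_mul.1 h3 with h | h
  · have := Nat.le_of_dvd (by norm_num) h
    omega
  · have := Nat.le_of_dvd one_pos ((Nat.dvd_add_right h).1 h2)
    omega

end Ctx

end Cfsg.Agent.Lib.Walter.NoField
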