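import Cfsg.Agent.Lib.Walter.NoField.BigTorus.Cycle
import Cfsg.Agent.Lib.JankoThompson.CentralizerFive

/-!
# Section Z, big case: centralisers of the elements of `C_T(F)`

For `1 ≠ a ∈ C_T(F)` the centraliser normalises `⟨u, w⟩`, or maps onto `A₅` with kernel
`O = O(C⟨u, w⟩)` such that `C(O)` still covers `A₅`.

Owner: helper66.
-/

set_option autoImplicit false
set_option linter.unusedSectionVars false
set_option linter.style.haveILetI false

universe u

namespace Cfsg.Agent.Lib.Walter.NoField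

open Subgroup Walter66 Cfsg.Agent.Lib.JankoThompson

variable {G : Type u} [Group G] [Finite G]

/-- `T₀ = C_T(F)`. -/
def fixedTorus (S : Sylow 2 G) (x y : G) : Subgroup G :=
  torus S x y ⊓ centralizer (fieldPart S : Set G)

namespace Ctx

variable {S : Sylow 2 G} {u : G} {E E₀ : Subgroup G} (C : Ctx S u E E₀)
include C

variable {w : G} (hw : w ∈ (S : Subgroup G)) (hwE : w ∈ E₀) (hw1 : w ≠ 1)
include hw hwE hw1

theorem fixedTorus_le_torus : fixedTorus S u w ≤ torus S u w := inf_le_left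

theorem comm_fixedTorus {a x : G} (ha : a ∈ fixedTorus S u w) (hx : x ∈ pairCore u w) :
    Commute a x := by
  obtain ⟨y, hy, f, hf, rfl⟩ := C.exists_mul_torus hw hwE hw1 hx
  exact Commute.mul_right (C.comm_torus hw hwE hw1 ha.1 hy)
    (mem_centralizer_iff.1 ha.2 f hf).symm

theorem commute_closure_pair {x p : G} (hx : x ∈ pairCore u w)
    (hp : p ∈ closure ({u, w} : Set G)) : Commute p x := by
  have h : x ∈ centralizer (closure ({u, w} : Set G) : Set G) := by
    rw [centralizer_closure]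
    exact pairCore_le u w hx
  exact mem_centralizer_iff.1 h p hp

/-- An element of `C⟨u, w⟩` centralises or inverts `a ∈ T₀`, and squares to a centralising one. -/
theorem sq_comm_fixedTorus {a c : G} (ha : a ∈ fixedTorus S u w)
    (hc : c ∈ centralizer ({u, w} : Set G)) : c * a * c⁻¹ = a ∨ c * a * c⁻¹ = a⁻¹ := by
  obtain ⟨o, ho, s, hs, rfl⟩ := C.exists_mul_pairCore hw hwE hw1 hc
  obtain ⟨v, r, T, hv⟩ := C.exists_tri_at hw hwE hw1
  have hoa : Commute o a := (C.comm_fixedTorus hw hwE hw1 ha ho).symm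
  have hp : ∀ {p}, p ∈ closure ({u, w} : Set G) → Commute p a := fun {p} hp =>
    C.commute_closure_pair hw hwE hw1 (C.torus_le hw hwE hw1 ha.1) hp
  have hu' : u ∈ closure ({u, w} : Set G) := subset_closure (Or.inl rfl)
  have hw' : w ∈ closure ({u, w} : Set G) := subset_closure (Or.inr rfl)
  have hinv := C.torus_inverted hw hwE hw1 hv T.bmem (ne_one_of_ord T.hb) T.ne.symm ha.1
  have hv' : ∀ {p}, p ∈ closure ({u, w} : Set G) → o * (p * v) * a * (o * (p * v))⁻¹ = a⁻¹ :=
    fun {p} hp' => by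
      calc o * (p * v) * a * (o * (p * v))⁻¹ = o * (p * (v * a * v⁻¹) * p⁻¹) * o⁻¹ := by group
        _ = o * a⁻¹ * o⁻¹ := by rw [hinv, (hp hp').inv_right.eq, mul_inv_cancel_right]
        _ = a⁻¹ := by rw [hoa.inv_right.eq, mul_inv_cancel_right]
  have hp' : ∀ {p}, p ∈ closure ({u, w} : Set G) → o * p * a * (o * p)⁻¹ = a := fun {p} h => by
    rw [(hoa.mul_left (hp h)).eq, mul_inv_cancel_right]
  obtain ⟨y, hy, hsy⟩ := C.cases_S T hw hv hs
  rcases hy with h | h | h | h <;> rcases hsy with h' | h' <;> subst h h'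
  exacts [Or.inl (hp' (one_mem _)), Or.inl (hp' (mul_mem hu' (one_mem _))), Or.inl (hp' hw'),
    Or.inl (hp' (mul_mem hu' hw')),
    Or.inr (by simpa using hv' (one_mem _)), Or.inr (hv' hu'), Or.inr (hv' hw'),
    Or.inr (by rw [← mul_assoc u]; exact hv' (mul_mem hu' hw'))]

set_option maxHeartbeats 1000000 in
/-- The centraliser of a non-trivial element of `T₀`. -/
theorem cent_cases {a : G} (ha : a ∈ fixedTorus S u w) (ha1 : a ≠ 1) :
    (∀ g, Commute g a → ∀ p ∈ closure ({u, w} : Set G), g * p * g⁻¹ ∈ closure ({u, w} : Set G)) ∨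
      ∃ f : ↥(centralizer ({a} : Set G)) →* alternatingGroup (Fin 5), Function.Surjective f ∧
        (∀ g, f g = 1 ↔ (g : G) ∈ pairCore u w) ∧
        (centralizer ((pairCore u w).subgroupOf (centralizer ({a} : Set G)) :
          Set ↥(centralizer ({a} : Set G)))).map f = ⊤ := by
  classical
  haveI : Fact (Nat.Prime 2) := ⟨Nat.prime_two⟩
  set H := centralizer ({a} : Set G) with hH
  have memH : ∀ {g}, g ∈ H ↔ Commute g a := fun {g} => mem_centralizer_singleton_iff
  set V := closure ({u, w} : Set G) with hV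
  set O := pairCore u w with hO
  have hVS : V ≤ (S : Subgroup G) := C.closure_pair_le hw hwE hw1
  have haO : a ∈ O := C.torus_le hw hwE hw1 ha.1
  have hVH : V ≤ H := fun p hp => memH.2 (C.commute_closure_pair hw hwE hw1 haO hp)
  have hOH : O ≤ H := fun x hx => memH.2 (C.comm_fixedTorus hw hwE hw1 ha hx).symm
  have hVpair : V ≤ centralizer ({u, w} : Set G) := hVS.trans (C.sylow_le_pair hw)
  -- `V` is a Sylow 2-subgroup
  let P : Sylow 2 H :=
    ⟨V.subgroupOf H, (S.isPGroup'.to_le hVS).of_equiv (subgroupOfEquivOfLe hVH).symm,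
      fun {Q} hQ hle => by
        have h := C.eq_of_pgroup_centralizer_torus hw hwE hw1 ha.1 ha1 (Q := Q.map H.subtype)
          (hQ.map _) (fun p hp => ⟨⟨p, hVH hp⟩, hle (mem_subgroupOf.2 hp), rfl⟩)
          (map_subtype_le Q)
        refine le_antisymm (fun q hq => mem_subgroupOf.2 ?_) hle
        show (q : G) ∈ V
        rw [hV, ← h]
        exact ⟨q, hq, rfl⟩⟩
  have hPcoe : (P : Subgroup H) = V.subgroupOf H := rfl
  have hPmem : ∀ {p : H}, p ∈ (P : Subgroup H) ↔ (p : G) ∈ V := fun {p} => by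
    rw [hPcoe]; exact mem_subgroupOf
  set Y := O.subgroupOf H with hY
  have hsup : (P : Subgroup H) ⊔ Y = (V ⊔ O).subgroupOf H := by
    rw [hPcoe, hY, ← subgroupOf_sup hVH hOH]
  have hA : ∀ {g}, g ∈ V ⊔ O → ∀ p ∈ V, Commute g p := by
    intro g hg p hp
    have hle : V ⊔ O ≤ centralizer ({p} : Set G) := sup_le
      (fun q hq => mem_centralizer_singleton_iff.2 (C.comm (hVS hq) (hVS hp)))
      fun x hx => mem_centralizer_singleton_iff.2 (C.commute_closure_pair hw hwE hw1 hx hp).symm.eq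
    exact mem_centralizer_singleton_iff.1 (hle hg)
  have hmemA : ∀ {g}, g ∈ centralizer ({u, w} : Set G) → Commute g a → g ∈ V ⊔ O := by
    intro g hg hga
    obtain ⟨o, ho, -, p, hp, rfl⟩ := C.exists_mul_of_comm hw hwE hw1 ha.1 ha1 hg hga.eq
    exact mul_mem (mem_sup_right ho) (mem_sup_left hp)
  have hcen : ∀ p ∈ (P : Subgroup H), p ≠ 1 →
      centralizer ({p} : Set H) = (P : Subgroup H) ⊔ Y := by
    intro p hp hp1
    rw [hsup]
    ext g
    rw [mem_centralizer_singleton_iff, mem_subgroupOf]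
    refine ⟨fun hg => ?_, fun hg => Subtype.ext (hA hg _ (hPmem.1 hp)).eq⟩
    have hp' := (C.closure_pair_cases hw hwE hw1).1 (hPmem.1 hp)
    exact hmemA (C.mem_pair_of_comm hw hwE hw1 ha.1 ha1
      (hp'.resolve_left fun e => hp1 (Subtype.ext e)) (congrArg Subtype.val hg) (memH.1 g.2).eq)
      (memH.1 g.2)
  have hfour : IsKleinFour ↥(P : Subgroup H) :=
    Cfsg.Agent.Lib.TwoGroups.Recognition.isKleinFour_of_card
      (by rw [hPcoe, Nat.card_congr (subgroupOfEquivOfLe hVH).toEquiv]
          exact C.card_closure_pair hw hwE hw1)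
      fun p hp => Subtype.ext (C.sq (hVS (hPmem.1 hp)))
  obtain ⟨r, hr, hr3⟩ := C.exists_pairCycle_cube hw hwE hw1
  by_cases hra : Commute r a
  swap
  · left
    have hnorm : ∀ g : G, Commute g a → g ∈ normalizer (V : Set G) → g ∈ V ⊔ O := by
      intro g hga hgN
      refine hmemA ?_ hga
      obtain ⟨k, c, hc, hkc⟩ := C.exists_cycle_mul hw hwE hw1 hr hgN
      have h1 : r ^ k * a * (r ^ k)⁻¹ = a ∨ r ^ k * a * (r ^ k)⁻¹ = a⁻¹ := by
        have e : r ^ k * a * (r ^ k)⁻¹ = c * a * c⁻¹ := by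
          calc r ^ k * a * (r ^ k)⁻¹ = r ^ k * (g * a * g⁻¹) * (r ^ k)⁻¹ := by
                rw [hga.eq, mul_inv_cancel_right]
            _ = c * a * c⁻¹ := by rw [← hkc]; group
        rw [e]
        exact C.sq_comm_fixedTorus hw hwE hw1 ha hc
      have h2 : Commute (r ^ (2 * k)) a := by
        refine mul_inv_eq_iff_eq_mul.1 ?_
        rw [two_mul, pow_add, show r ^ k * r ^ k * a * (r ^ k * r ^ k)⁻¹ =
          r ^ k * (r ^ k * a * (r ^ k)⁻¹) * (r ^ k)⁻¹ by group]
        rcases h1 with h1 | h1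
        · rw [h1, h1]
        · rw [h1, show r ^ k * a⁻¹ * (r ^ k)⁻¹ = (r ^ k * a * (r ^ k)⁻¹)⁻¹ by group, h1, inv_inv]
      have hk : k % 3 = 0 := by
        by_contra hne
        refine hra ?_
        rcases (show k % 3 = 1 ∨ k % 3 = 2 by omega) with h | h
        · have h4 : r = r ^ (2 * k * 2) := by
            conv_lhs => rw [← pow_one r]
            rw [← pow_mod_orderOf r (2 * k * 2), hr3, show 2 * k * 2 % 3 = 1 by omega]
          rw [h4, pow_mul]
          exact h2.pow_left 2
        · have h4 : r = r ^ (2 * k) := by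
            conv_lhs => rw [← pow_one r]
            rw [← pow_mod_orderOf r (2 * k), hr3, show 2 * k % 3 = 1 by omega]
          rw [h4]
          exact h2
      have hrk : r ^ k = 1 := orderOf_dvd_iff_pow_eq_one.1 (hr3 ▸ Nat.dvd_of_mod_eq_zero hk)
      rw [show g = c by rw [← hkc, hrk, one_mul]]
      exact hc
    have hN : normalizer ((P : Subgroup H) : Set H) ≤ centralizer ((P : Subgroup H) : Set H) := by
      intro g hg
      have hgV : (g : G) ∈ normalizer (V : Set G) := by
        rw [mem_normalizer_iff_map_conj_eq]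
        refine eq_of_le_of_card_ge ?_ (card_map_of_injective (MulAut.conj (g : G)).injective).ge
        rintro _ ⟨p, hp, rfl⟩
        exact hPmem.1 ((mem_normalizer_iff.1 hg ⟨p, hVH hp⟩).1 (hPmem.2 hp))
      have hgA := hnorm g (memH.1 g.2) hgV
      exact mem_centralizer_iff.2 fun p hp => Subtype.ext (hA hgA _ (hPmem.1 hp)).eq.symm
    have hcompl := MonoidHom.ker_transferSylow_isComplement' P hN
    set N := (MonoidHom.transferSylow P hN).ker
    have hNodd : ¬ 2 ∣ Nat.card N := by
      rw [← hcompl.index_eq_card]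
      exact P.not_dvd_index
    haveI : IsMulCommutative ↥(P : Subgroup H) := haveI := hfour; IsKleinFour.isMulCommutative
    have hcyc : ¬ IsCyclic ↥(P : Subgroup H) := haveI := hfour; IsKleinFour.not_isCyclic
    have hgen := Cfsg.Agent.Lib.Coprime.iSup_centralizer_eq (A := (P : Subgroup H)) (K := N) hcyc
      (fun a _ => by rw [normalizer_eq_top]; exact mem_top a) (by
        obtain ⟨i, hi⟩ := P.isPGroup'.exists_card_eq
        rw [hi]
        exact Nat.Coprime.pow_left i ((Nat.prime_two.coprime_iff_not_dvd).2 hNodd))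
    have hNA : N ≤ (V ⊔ O).subgroupOf H := by
      rw [← hgen]
      refine iSup₂_le fun p hp => ?_
      rw [← hsup, ← hcen p hp.1 hp.2]
      exact inf_le_right
    have htop : (V ⊔ O).subgroupOf H = ⊤ := by
      refine top_le_iff.1 ?_
      rw [← hcompl.sup_eq_top]
      exact sup_le hNA (hsup ▸ le_sup_left)
    intro g hga p hp
    have hgA : g ∈ V ⊔ O := mem_subgroupOf.1 (htop ▸ mem_top (⟨g, memH.2 hga⟩ : H))
    rwa [mul_inv_eq_iff_eq_mul.2 (hA hgA p hp).eq]
  have hrV : r ∈ normalizer (V : Set G) := C.pairCycle_mem_normalizer hw hwE hw1 hr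
  have hF : Centralizer.FusedCore P Y ⟨r, memH.2 hra⟩ := by
    refine ⟨hfour, hcen, fun p hp x hx => Subtype.ext
        (C.commute_closure_pair hw hwE hw1 (mem_subgroupOf.1 hx) (hPmem.1 hp)).eq, ?_, ?_,
      fun p hp => hPmem.2 ((mem_normalizer_iff.1 hrV p).1 (hPmem.1 hp)), fun p hp e => ?_⟩
    · rw [hY, Nat.card_congr (subgroupOfEquivOfLe hOH).toEquiv]; exact odd_pairCore u w
    · rw [Subgroup.orderOf_mk]; exact hr3
    · have e' : r * p * r⁻¹ = (p : G) := congrArg Subtype.val e
      refine Subtype.ext ?_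
      rcases (C.closure_pair_cases hw hwE hw1).1 (hPmem.1 hp) with h | h | h | h
      · exact h
      · rw [h, hr.map_u] at e'; exact absurd e'.symm (C.ne_pair hw hwE hw1)
      · rw [h, hr.map_w] at e'; exact absurd (mul_eq_right.1 e') C.ne_one
      · rw [h, C.pairCycle_map_uw hw hwE hw1 hr] at e'; exact absurd (left_eq_mul.1 e') hw1
  rcases hF.index_cases with h12 | h60
  · left
    intro g hga p hp
    have htop : normalizer (P : Set H) = ⊤ :=
      eq_top_of_card_eq _ (by rw [hF.card_normalizer, h12])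
    exact hPmem.1 ((mem_normalizer_iff.1 (htop ▸ mem_top (⟨g, memH.2 hga⟩ : H)) ⟨p, hVH hp⟩).1
      (hPmem.2 hp))
  · right
    obtain ⟨f, hfs, hfY, hmap, -⟩ := hF.five h60
    exact ⟨f, hfs, fun g => (hfY g).trans mem_subgroupOf, hmap⟩

end Ctx

end Cfsg.Agent.Lib.Walter.NoField
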