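import Cfsg.Agent.Lib.Walter.NoField.Local

/-!
# Section Z, big case: a cycle of order three of the four-group `⟨u, w⟩`

Owner: helper66.
-/

set_option autoImplicit false
set_option linter.unusedSectionVars false
set_option linter.style.haveILetI false

universe u

namespace Cfsg.Agent.Lib.Walter.NoField

open Subgroup Walter66

variable {G : Type u} [Group G] [Finite G]

namespace Ctx

variable {S : Sylow 2 G} {u : G} {E E₀ : Subgroup G} (C : Ctx S u E E₀)
include C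

variable {w : G} (hw : w ∈ (S : Subgroup G)) (hwE : w ∈ E₀) (hw1 : w ≠ 1)
include hw hwE hw1

theorem closure_pair_cases {p : G} :
    p ∈ closure ({u, w} : Set G) ↔ p = 1 ∨ p = u ∨ p = w ∨ p = u * w :=
  mem_closure_pair (C.sq C.mem) (C.sq hw) (C.comm C.mem hw)

theorem pair_ne : u * w ≠ 1 := fun h => C.ne_pair hw hwE hw1 (by
  calc u = u * w * w := by rw [mul_assoc, C.sq hw, mul_one]
    _ = w := by rw [h, one_mul])

theorem card_closure_pair : Nat.card ↥(closure ({u, w} : Set G)) = 4 := by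
  have he : (closure ({u, w} : Set G) : Set G) = {1, u, w, u * w} := by
    ext a
    rw [SetLike.mem_coe, C.closure_pair_cases hw hwE hw1]
    simp
  have hne := C.ne_pair hw hwE hw1
  show Nat.card (closure ({u, w} : Set G) : Set G) = 4
  rw [Nat.card_coe_set_eq, he, Set.ncard_insert_of_notMem (by
      simp only [Set.mem_insert_iff, Set.mem_singleton_iff, not_or]
      exact ⟨C.ne_one.symm, hw1.symm, (C.pair_ne hw hwE hw1).symm⟩) (Set.toFinite _),
    Set.ncard_insert_of_notMem (by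
      simp only [Set.mem_insert_iff, Set.mem_singleton_iff, not_or]
      exact ⟨hne, fun e => hw1 (left_eq_mul.1 e)⟩) (Set.toFinite _),
    Set.ncard_pair (fun e => C.ne_one (right_eq_mul.1 e))]

/-- The cycle may be taken of order three. -/
theorem exists_pairCycle_cube : ∃ r : G, IsPairCycle S u w r ∧ orderOf r = 3 := by
  obtain ⟨σ, hσ⟩ := C.exists_pairCycle hw hwE hw1
  have h2 : σ * σ * σ * u * (σ * σ * σ)⁻¹ = u := by
    rw [show σ * σ * σ * u * (σ * σ * σ)⁻¹ = σ * (σ * (σ * u * σ⁻¹) * σ⁻¹) * σ⁻¹ by group, hσ.map_u,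
      hσ.map_w, C.pairCycle_map_uw hw hwE hw1 hσ]
  have h3 : σ * σ * σ * w * (σ * σ * σ)⁻¹ = w := by
    rw [show σ * σ * σ * w * (σ * σ * σ)⁻¹ = σ * (σ * (σ * w * σ⁻¹) * σ⁻¹) * σ⁻¹ by group, hσ.map_w,
      C.pairCycle_map_uw hw hwE hw1 hσ, hσ.map_u]
  have hσK : σ ∈ zpowers σ ⊔ (S : Subgroup G) := mem_sup_left (mem_zpowers σ)
  have hS : σ * σ * σ ∈ (S : Subgroup G) := by
    obtain ⟨f, hf, s, hs, hfs⟩ := C.exists_mul_fieldPart (C.centralizes_of_normalizes hw hwE hw1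
      (mul_mem (mul_mem hσ.mem hσ.mem) hσ.mem)
      (mem_centralizer_pair.2 ⟨mul_inv_eq_iff_eq_mul.1 h2, mul_inv_eq_iff_eq_mul.1 h3⟩))
    have hfK : f ∈ (zpowers σ ⊔ (S : Subgroup G)) ⊓ fieldPart S := by
      refine mem_inf.2 ⟨?_, hf⟩
      rw [show f = σ * σ * σ * s⁻¹ by rw [hfs]; group]
      exact mul_mem (mul_mem (mul_mem hσK hσK) hσK) (inv_mem (mem_sup_right hs))
    rw [hσ.disjoint, mem_bot] at hfK
    rwa [hfs, hfK, one_mul]
  have e4 : ∀ x, σ * σ * σ * σ * x * (σ * σ * σ * σ)⁻¹ = σ * σ * σ * (σ * x * σ⁻¹) * (σ * σ * σ)⁻¹ :=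
    fun x => by group
  set r := σ * σ * σ * σ with hr
  have hru : r * u * r⁻¹ = w := by rw [e4, hσ.map_u, h3]
  have hrw : r * w * r⁻¹ = u * w := by
    rw [e4, hσ.map_w, show σ * σ * σ * (u * w) * (σ * σ * σ)⁻¹ = σ * σ * σ * u * (σ * σ * σ)⁻¹ *
      (σ * σ * σ * w * (σ * σ * σ)⁻¹) by group, h2, h3]
  refine ⟨r, ⟨mul_mem (mul_mem (mul_mem hσ.mem hσ.mem) hσ.mem) hσ.mem, hru, hrw, ?_, ?_⟩, ?_⟩
  · obtain ⟨z, hz, z1, z2, z3, z4, z5⟩ := hσ.fixed
    refine ⟨z, hz, z1, z2, z3, z4, ?_⟩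
    rw [e4, z5, show σ * σ * σ * z * (σ * σ * σ)⁻¹ = σ * (σ * (σ * z * σ⁻¹) * σ⁻¹) * σ⁻¹ by group,
      z5, z5, z5]
  · have hle : zpowers r ⊔ (S : Subgroup G) ≤ zpowers σ ⊔ (S : Subgroup G) :=
      sup_le (zpowers_le.2 (mul_mem (mul_mem (mul_mem hσK hσK) hσK) hσK)) le_sup_right
    rw [eq_bot_iff, ← hσ.disjoint]
    exact inf_le_inf_right _ hle
  · refine orderOf_eq_prime ?_ fun h => C.ne_pair hw hwE hw1 ?_
    · have h6 := C.sq hS
      calc r ^ 3 = (σ * σ * σ * (σ * σ * σ)) * (σ * σ * σ * (σ * σ * σ)) := by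
            rw [hr]; simp only [pow_succ, pow_zero, one_mul, mul_assoc]
        _ = 1 := by rw [h6, one_mul]
    · rw [h, one_mul, inv_one, mul_one] at hru
      exact hru

/-- The cycle normalises the centraliser of the pair. -/
theorem conj_mem_cent_pair {r c : G} (hr : IsPairCycle S u w r)
    (hc : c ∈ centralizer ({u, w} : Set G)) : r * c * r⁻¹ ∈ centralizer ({u, w} : Set G) := by
  obtain ⟨hcu, hcw⟩ := mem_centralizer_pair.1 hc
  have h1 : Commute (r * c * r⁻¹) w := by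
    have := (show Commute c u from hcu).map (MulAut.conj r).toMonoidHom
    simpa [hr.map_u] using this
  have h2 : Commute (r * c * r⁻¹) (u * w) := by
    have := (show Commute c w from hcw).map (MulAut.conj r).toMonoidHom
    simpa [hr.map_w] using this
  have h3 := h2.mul_right h1
  rw [mul_assoc u, C.sq hw, mul_one] at h3
  exact mem_centralizer_pair.2 ⟨h3.eq, h1.eq⟩

theorem conj_mem_pairCore_cycle {r x : G} (hr : IsPairCycle S u w r) (hx : x ∈ pairCore u w) :
    r * x * r⁻¹ ∈ pairCore u w :=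
  conj_mem_pairCore (fun _ hc => C.conj_mem_cent_pair hw hwE hw1 hr hc) hx

end Ctx

end Cfsg.Agent.Lib.Walter.NoField
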