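import Cfsg.Agent.Lib.Walter.NoField.BigTorus.NoFive
import Cfsg.Agent.Lib.JankoThompson.GSide.Torus

/-!
# Section Z, big case: the torus data

`torusData`: `GSide.TorusData u E` with `s = w`, `w = v`, `U = O(C⟨u,w⟩) = T F`, `T` and
`T₀ = C_T(F)`; `exists_torusData` chooses `w`, `v`, `r`.

Owner: helper66.
-/

set_option autoImplicit false
set_option linter.unusedSectionVars false
set_option linter.style.haveILetI false

universe u

namespace Cfsg.Agent.Lib.Walter.NoField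

open Subgroup Walter66 Cfsg.Agent.Lib.JankoThompson

variable {G : Type u} [Group G] [Finite G]

theorem exists_ne_one_fieldPart {S : Sylow 2 G} (hF : fieldPart S ≠ ⊥) :
    ∃ x ∈ fieldPart S, x ≠ 1 := by
  by_contra h
  push Not at h
  exact hF ((eq_bot_iff_forall _).2 h)

theorem fixedBig_at {S : Sylow 2 G} {E₀ : Subgroup G} (hb : FixedBig S E₀) {x : G}
    (hx : x ∈ fieldPart S) : 60 < Nat.card ↥(E₀ ⊓ centralizer ({x} : Set G)) :=
  lt_of_lt_of_le hb (card_le_of_le (inf_le_inf_left _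
    (centralizer_le (Set.singleton_subset_iff.2 hx))))

/-- The centralisers of the elements of `T₀` normalise `⟨u, w⟩`. -/
def CentFixed (S : Sylow 2 G) (u w : G) : Prop :=
  ∀ a ∈ fixedTorus S u w, a ≠ 1 → ∀ g : G, Commute g a → ∀ p ∈ closure ({u, w} : Set G),
    g * p * g⁻¹ ∈ closure ({u, w} : Set G)

namespace Ctx

variable {S : Sylow 2 G} {u : G} {E E₀ : Subgroup G} (C : Ctx S u E E₀)
include C

/-- Two involutions of `S ⊓ E₀`. -/
theorem exists_frame : ∃ w v : G, w ∈ (S : Subgroup G) ∧ w ∈ E₀ ∧ w ≠ 1 ∧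
    v ∈ (S : Subgroup G) ∧ v ∈ E₀ ∧ v ≠ 1 ∧ v ≠ w := by
  obtain ⟨a, b, r, T, ha, hb⟩ := C.exists_tri
  exact ⟨a, b, ha, T.amem, ne_one_of_ord T.ha, hb, T.bmem, ne_one_of_ord T.hb, T.ne.symm⟩

variable {w : G} (hw : w ∈ (S : Subgroup G)) (hwE : w ∈ E₀) (hw1 : w ≠ 1)
include hw hwE hw1

theorem centFixed (hK : PropKnown.{u}) (hL : PropKnownFacts.{u}) (hO : PropOrder.{u})
    (hIH : SmallerNoField G) (hF : fieldPart S ≠ ⊥) (hb : FixedBig S E₀) : CentFixed S u w := by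
  intro a ha ha1 g hg p hp
  obtain ⟨x, hx, hx1⟩ := exists_ne_one_fieldPart hF
  exact C.cent_fixedTorus hw hwE hw1 hK hL hO hIH hx hx1 (fixedBig_at hb hx) ha ha1 hg hp

/-- `C⟨u, w⟩ = ⟨u, w⟩ O ⟨v⟩`. -/
theorem cent_pair_cases {v : G} (hv : v ∈ (S : Subgroup G)) (hvE : v ∈ E₀) (hv1 : v ≠ 1)
    (hvw : v ≠ w) {g : G} (hgu : Commute g u) (hgw : Commute g w) :
    ∃ p : G, (p = 1 ∨ p = u ∨ p = w ∨ p = u * w) ∧
      ∃ x ∈ pairCore u w, g = p * x ∨ g = p * x * v := by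
  obtain ⟨o, ho, s, hs, rfl⟩ :=
    C.exists_mul_pairCore hw hwE hw1 (mem_centralizer_pair.2 ⟨hgu.eq, hgw.eq⟩)
  obtain ⟨v₀, r, T, hv₀⟩ := C.exists_tri_at hw hwE hw1
  obtain ⟨p, hp, hsp⟩ : ∃ p, (p = 1 ∨ p = u ∨ p = w ∨ p = u * w) ∧ (s = p ∨ s = p * v) := by
    have hv' : v = v₀ ∨ v = w * v₀ := by
      rcases C.inf_cases T hw hv₀ hv (C.conf.le hvE) with h | h | h | h
      exacts [absurd h hv1, absurd h hvw, Or.inl h, Or.inr h]
    have hww : ∀ y, w * (w * y) = y := fun y => by rw [← mul_assoc, C.sq hw, one_mul]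
    have huw : ∀ y, u * w * (w * y) = u * y := fun y => by rw [mul_assoc, hww]
    obtain ⟨y, hy, hsy⟩ := C.cases_S T hw hv₀ hs
    rcases hsy with hsy | hsy <;> rw [hsy]
    · rcases hy with h | h | h | h <;> rw [h]
      · exact ⟨1, Or.inl rfl, Or.inl rfl⟩
      · exact ⟨w, Or.inr (Or.inr (Or.inl rfl)), Or.inl rfl⟩
      · rcases hv' with h | h
        · exact ⟨1, Or.inl rfl, Or.inr (by rw [one_mul, h])⟩
        · exact ⟨w, Or.inr (Or.inr (Or.inl rfl)), Or.inr (by rw [h, hww])⟩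
      · rcases hv' with h | h
        · exact ⟨w, Or.inr (Or.inr (Or.inl rfl)), Or.inr (by rw [h])⟩
        · exact ⟨1, Or.inl rfl, Or.inr (by rw [one_mul, h])⟩
    · rcases hy with h | h | h | h <;> rw [h]
      · exact ⟨u, Or.inr (Or.inl rfl), Or.inl (mul_one u)⟩
      · exact ⟨u * w, Or.inr (Or.inr (Or.inr rfl)), Or.inl rfl⟩
      · rcases hv' with h | h
        · exact ⟨u, Or.inr (Or.inl rfl), Or.inr (by rw [h])⟩
        · exact ⟨u * w, Or.inr (Or.inr (Or.inr rfl)), Or.inr (by rw [h, huw])⟩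
      · rcases hv' with h | h
        · exact ⟨u * w, Or.inr (Or.inr (Or.inr rfl)), Or.inr (by rw [h, mul_assoc])⟩
        · exact ⟨u, Or.inr (Or.inl rfl), Or.inr (by rw [h])⟩
  have hpo : Commute p o :=
    C.commute_closure_pair hw hwE hw1 ho ((C.closure_pair_cases hw hwE hw1).2 hp)
  refine ⟨p, hp, o, ho, ?_⟩
  rcases hsp with rfl | rfl
  · exact Or.inl hpo.eq.symm
  · exact Or.inr (by rw [← mul_assoc, hpo.eq])

variable {v : G} (hv : v ∈ (S : Subgroup G)) (hvE : v ∈ E₀) (hv1 : v ≠ 1) (hvw : v ≠ w)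
variable {r : G} (hr : IsPairCycle S u w r) (hr3 : orderOf r = 3) (hcent : CentFixed S u w)
include hv hvE hv1 hvw hr hr3 hcent

/-- The torus data of Section Z. -/
def torusData : GSide.TorusData u E where
  ord := C.ord
  split := C.cent.1
  s := w
  w := v
  r := r
  U := pairCore u w
  T := torus S u w
  T₀ := fixedTorus S u w
  s_mem := C.conf.le hwE
  s_ord := C.orderOf_mem hw hw1
  w_mem := C.conf.le hvE
  w_ord := C.orderOf_mem hv hv1
  w_ne := hvw
  sw := C.comm hw hv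
  U_le := C.pairCore_le_E hw hwE hw1
  U_odd := odd_pairCore u w
  U_s := fun x hx => (mem_centralizer_pair.1 (pairCore_le u w hx)).2.symm
  T_le := C.torus_le hw hwE hw1
  T₀_le := C.fixedTorus_le_torus hw hwE hw1
  T_conj := fun x hx a ha => by
    rw [C.torus_eq hw hwE hw1] at ha ⊢
    exact mem_inf.2 ⟨mul_mem (mul_mem hx ha.1) (inv_mem hx),
      C.conf.conj₀ x (C.pairCore_le_E hw hwE hw1 hx) a ha.2⟩
  T₀_cent := fun x hx a ha => C.comm_fixedTorus hw hwE hw1 ha hx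
  w_inv := fun a ha => C.torus_inverted hw hwE hw1 hv hvE hv1 hvw ha
  w_mod := fun x hx => by
    obtain ⟨y, hy, f, hf, rfl⟩ := C.exists_mul_torus hw hwE hw1 hx
    have hfv : v * f * v⁻¹ = f := by rw [← comm_fieldPart_sylow hf hv, mul_inv_cancel_right]
    have e : (y * f)⁻¹ * (v * (y * f) * v⁻¹) = f⁻¹ * (y⁻¹ * y⁻¹) * f⁻¹⁻¹ := by
      rw [show v * (y * f) * v⁻¹ = v * y * v⁻¹ * (v * f * v⁻¹) by group,
        C.torus_inverted hw hwE hw1 hv hvE hv1 hvw hy, hfv]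
      group
    rw [e]
    exact C.conj_torus_fieldPart hw hwE hw1 (inv_mem hf) (mul_mem (inv_mem hy) (inv_mem hy))
  cent_ts := fun g h1 h2 => C.cent_pair_cases hw hwE hw1 hv hvE hv1 hvw h1 h2
  r_cube := by rw [← hr3, pow_orderOf_eq_one]
  r_t := hr.map_u
  r_s := hr.map_w
  r_U := fun x hx => C.conj_mem_pairCore_cycle hw hwE hw1 hr hx
  r_T₀ := fun a ha => mem_inf.2
    ⟨C.pairCycle_conj_torus hw hwE hw1 hr (mem_sup_left (mem_zpowers r)) ha.1,
      mem_centralizer_iff.2 fun f hf => by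
        have h1 : Commute r f := C.comm_normalizer hr.mem hf
        have h2 : Commute f a := mem_centralizer_iff.1 ha.2 f hf
        exact ((h1.symm.mul_right h2).mul_right h1.symm.inv_right).eq⟩
  cent_T₀ := fun a ha ha1 g hg p hp => (C.closure_pair_cases hw hwE hw1).1
    (hcent a ha ha1 g hg p ((C.closure_pair_cases hw hwE hw1).2 hp))
  one_class := fun a ha => C.jr.conj u a C.ord ha

end Ctx

end Cfsg.Agent.Lib.Walter.NoField
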