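import Cfsg.Agent.Lib.Walter.NoField.BigTorus.KleinPart
import Cfsg.Agent.Lib.JankoThompson.NoFusedPair

/-!
# Section Z, big case: the cycle has no fixed points on `C_T(F)`

In `C(x)/⟨x⟩`, `1 ≠ x ∈ F`, the group `K` has centraliser `2 × PSL(2, q₀)`, so `no_fused_pair`
applies: the images of `u`, `w`, `a` and of the part of the cycle in `E₀(z)` lie in `K`.

Owner: helper66.
-/

set_option autoImplicit false
set_option linter.unusedSectionVars false
set_option linter.style.haveILetI false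

universe u

namespace Cfsg.Agent.Lib.Walter.NoField

open Subgroup Walter66 Cfsg.Agent.Lib.JankoThompson

variable {G : Type u} [Group G] [Finite G]

/-- A simple group of even order lies in every normal subgroup of odd index. -/
theorem le_of_odd_index {X : Type u} [Group X] [Finite X] {K N : Subgroup X} (hs : IsSimpleGroup ↥K)
    (h2 : 2 ∣ Nat.card ↥K) [hN : N.Normal] (hi : Odd N.index) : K ≤ N := by
  rcases hs.eq_bot_or_eq_top_of_normal (N.subgroupOf K) inferInstance with e | e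
  · exfalso
    have hinj : Function.Injective ((QuotientGroup.mk' N).comp K.subtype) :=
      (injective_iff_map_eq_one _).2 fun k hk =>
        mem_bot.1 (e ▸ mem_subgroupOf.2 ((QuotientGroup.eq_one_iff (k : X)).1 hk))
    have hd := Subgroup.card_dvd_of_injective _ hinj
    rw [← index_eq_card] at hd
    exact Nat.not_even_iff_odd.2 (hi.of_dvd_nat hd) (even_iff_two_dvd.2 h2)
  · exact subgroupOf_eq_top.1 e

namespace Ctx

variable {S : Sylow 2 G} {u : G} {E E₀ : Subgroup G} (C : Ctx S u E E₀)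
include C

/-- The order of `E₀` does not depend on the involution of `S`. -/
theorem card_E₀_eq {z : G} {E' E₀' : Subgroup G} (C' : Ctx S z E' E₀') :
    Nat.card ↥E₀' = Nat.card ↥E₀ := by
  obtain ⟨g, hg⟩ := isConj_iff.1 (C.jr.conj u z C.ord C'.ord)
  have h1 : ∀ {y : G} {H H₀ : Subgroup G}, Ctx S y H H₀ →
      Nat.card ↥(centralizer ({y} : Set G)) = 2 * (Nat.card ↥H₀ * Nat.card ↥(fieldPart S)) := by
    intro y H H₀ D
    obtain ⟨d⟩ := prod_equiv D.ord D.cent.1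
    rw [Nat.card_congr d.toEquiv, Nat.card_prod, D.card_E, Nat.card_eq_fintype_card,
      Fintype.card_multiplicative, ZMod.card]
  have h2 : Nat.card ↥(centralizer ({u} : Set G)) = Nat.card ↥(centralizer ({z} : Set G)) := by
    rw [card_centralizer_image g {u}, Set.image_singleton, hg]
  rw [h1 C, h1 C'] at h2
  exact (Nat.eq_of_mul_eq_mul_right Nat.card_pos (Nat.eq_of_mul_eq_mul_left two_pos h2)).symm

/-- The fixed group of `x ∈ F` in another `E₀` is of odd type. -/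
theorem isOddType_other {z : G} {E' E₀' : Subgroup G} (C' : Ctx S z E' E₀') {x : G}
    (hx : x ∈ fieldPart S) (hbig : 60 < Nat.card ↥(E₀ ⊓ centralizer ({x} : Set G))) :
    IsOddType ↥(E₀' ⊓ centralizer ({x} : Set G)) := by
  have hxS := fieldPart_le_centralizer S hx
  have hxo : Odd (orderOf x) := odd_orderOf_mem (odd_fieldPart S) hx
  obtain ⟨F, _, _, F₀, _, _, ⟨φ⟩, h8, -, h₀, hq, ⟨φ₀⟩, h⟩ :=
    Cent.fixed_cases C'.jr C'.ord C'.mem C'.cent hxS hxo
  obtain ⟨K, _, _, K₀, _, _, ⟨ψ⟩, g8, -, g₀, gq, ⟨ψ₀⟩, -⟩ :=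
    Cent.fixed_cases C.jr C.ord C.mem C.cent hxS hxo
  rcases h with ⟨-, h12⟩ | ⟨-, hodd⟩
  · exfalso
    have c1 := Linear.two_mul_card_PSL_two_of_odd (F := F) (Nat.odd_iff.2 (by omega))
    have c2 := Linear.two_mul_card_PSL_two_of_odd (F := K) (Nat.odd_iff.2 (by omega))
    rw [← Nat.card_congr φ.toEquiv, C.card_E₀_eq C'] at c1
    rw [← Nat.card_congr ψ.toEquiv, c1] at c2
    have h1 := pslOrder_injective Fintype.one_lt_card Fintype.one_lt_card c2
    rw [hq, gq] at h1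
    have h2 : Fintype.card F₀ = Fintype.card K₀ :=
      Nat.pow_left_injective (orderOf_pos x).ne' h1
    have d1 := Linear.two_mul_card_PSL_two_of_odd (F := F₀) (Nat.odd_iff.2 (by omega))
    have d2 := Linear.two_mul_card_PSL_two_of_odd (F := K₀) (Nat.odd_iff.2 (by omega))
    rw [← Nat.card_congr φ₀.toEquiv, h12, h2] at d1
    rw [← Nat.card_congr ψ₀.toEquiv, ← d1] at d2
    omega
  · exact hodd

variable {w : G} (hw : w ∈ (S : Subgroup G)) (hwE : w ∈ E₀) (hw1 : w ≠ 1)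
include hw hwE hw1

/-- The cycle centralises no non-trivial element of `C_T(F)`. -/
theorem rot_free (hK : PropKnown.{u}) (hL : PropKnownFacts.{u}) (hO : PropOrder.{u})
    (hIH : SmallerNoField G) {x : G} (hx : x ∈ fieldPart S) (hx1 : x ≠ 1)
    (hbig : 60 < Nat.card ↥(E₀ ⊓ centralizer ({x} : Set G)))
    {r : G} (hr : IsPairCycle S u w r) (hr3 : orderOf r = 3) {a : G} (ha : a ∈ fixedTorus S u w)
    (hra : Commute r a) : a = 1 := by
  haveI : Fact (Nat.Prime 2) := ⟨Nat.prime_two⟩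
  have hxS := fieldPart_le_centralizer S hx
  have hxo : Odd (orderOf x) := odd_orderOf_mem (odd_fieldPart S) hx
  obtain ⟨_, _, _, _, _, _, -, -, -, -, -, -, h⟩ :=
    Cent.fixed_cases C.jr C.ord C.mem C.cent hxS hxo
  rcases h with ⟨-, h⟩ | ⟨-, hodd⟩
  · omega
  obtain ⟨K, -, hKn, hKi, -, hTK, hfix, hJR, huniq⟩ :=
    Cent.centralizer_large C.jr C.ord C.mem C.cent hxS hxo hK hL hx1 hodd
  haveI := hKn
  -- the fixed involution of the cycle
  obtain ⟨z, hz, hz1, -, -, -, hrz⟩ := hr.fixed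
  obtain ⟨E', E₀', hc'⟩ := C.jr.centralizer z (C.orderOf_mem hz hz1)
  have C' : Ctx S z E' E₀' := ⟨C.jr, C.orderOf_mem hz hz1, hz, hc'⟩
  obtain ⟨h, hh, f, hf, hrhf⟩ := C'.exists_mul (C'.conf.odd_mem (mul_inv_eq_iff_eq_mul.1 hrz)
    (by rw [hr3]; decide))
  obtain ⟨K', -, hK'n, hK'i, -, hTK', hfix', hJR', -⟩ :=
    Cent.centralizer_large C'.jr C'.ord C'.mem C'.cent hxS hxo hK hL hx1
      (C.isOddType_other C' hx hbig)
  haveI := hK'n
  set qx := JRCore.qm (centralizer ({x} : Set G))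
  have hSx := Cent.sylow_le_centralizer hxS
  have hord : ∀ {p : G} (hp : p ∈ (S : Subgroup G)), p ≠ 1 → orderOf (qx ⟨p, hSx hp⟩) = 2 := by
    intro p hp hp1
    have h8 : orderOf (qx ⟨p, hSx hp⟩) ∣ 2 := by
      have := orderOf_map_dvd qx (⟨p, hSx hp⟩ : ↥(centralizer ({x} : Set G)))
      rwa [Subgroup.orderOf_mk, C.orderOf_mem hp hp1] at this
    exact ((Nat.dvd_prime Nat.prime_two).1 h8).resolve_left fun h1 =>
      JRCore.qm_ne_one hSx hp hp1 (orderOf_eq_one_iff.1 h1)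
  have hK2 : ∀ {M : Subgroup (JRCore.Quo (centralizer ({x} : Set G)))},
      (JRCore.quoSylow hSx : Subgroup _) ≤ M → 2 ∣ Nat.card ↥M := fun {M} hM => by
    exact (dvd_of_eq (hord C.mem C.ne_one).symm).trans
      (Subgroup.orderOf_dvd_natCard _ (hM (JRCore.qm_mem_quoSylow hSx C.mem)))
  have hKK : K' = K := le_antisymm (le_of_odd_index hJR'.simple (hK2 hTK') hKi)
    (le_of_odd_index hJR.simple (hK2 hTK) hK'i)
  -- `h` cycles `u`, `w` and centralises `a` and `x`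
  obtain rfl : h = r * f⁻¹ := by rw [hrhf, mul_inv_cancel_right]
  have hfu : Commute f u := comm_fieldPart_sylow hf C.mem
  have hfw : Commute f w := comm_fieldPart_sylow hf hw
  have hfa : Commute f a := mem_centralizer_iff.1 ha.2 f hf
  have hfx : Commute f x := C.comm_fieldPart hf hx
  have hrx : Commute r x := C.comm_normalizer hr.mem hx
  have hgu : r * f⁻¹ * u * (r * f⁻¹)⁻¹ = w := by
    rw [show r * f⁻¹ * u * (r * f⁻¹)⁻¹ = r * (f⁻¹ * u * f⁻¹⁻¹) * r⁻¹ by group, hfu.inv_left.eq,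
      mul_inv_cancel_right, hr.map_u]
  have hgw : r * f⁻¹ * w * (r * f⁻¹)⁻¹ = u * w := by
    rw [show r * f⁻¹ * w * (r * f⁻¹)⁻¹ = r * (f⁻¹ * w * f⁻¹⁻¹) * r⁻¹ by group, hfw.inv_left.eq,
      mul_inv_cancel_right, hr.map_w]
  have hga : Commute (r * f⁻¹) a := hra.mul_left hfa.inv_left
  have hgx : r * f⁻¹ ∈ centralizer ({x} : Set G) :=
    mem_centralizer_singleton_iff.2 (hrx.mul_left hfx.inv_left).eq
  have hax : a ∈ centralizer ({x} : Set G) :=
    mem_centralizer_singleton_iff.2 (mem_centralizer_iff.1 ha.2 x hx).symm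
  have hwx : w ∈ centralizer ({x} : Set G) := hSx hw
  have hux : u ∈ centralizer ({x} : Set G) := hSx C.mem
  have haK : qx ⟨a, hax⟩ ∈ K :=
    hfix (Cent.mem_fixedBar.2 ⟨⟨a, hax⟩, C.torus_le_E₀ hw hwE hw1 ha.1, rfl⟩)
  have hgK : qx ⟨r * f⁻¹, hgx⟩ ∈ K :=
    hKK ▸ hfix' (Cent.mem_fixedBar.2 ⟨⟨r * f⁻¹, hgx⟩, hh, rfl⟩)
  have huK : qx ⟨u, hux⟩ ∈ K := hTK (JRCore.qm_mem_quoSylow hSx C.mem)
  have hwK : qx ⟨w, hwx⟩ ∈ K := hTK (JRCore.qm_mem_quoSylow hSx hw)
  set uK : ↥K := ⟨qx ⟨u, hux⟩, huK⟩ with huKdef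
  set wK : ↥K := ⟨qx ⟨w, hwx⟩, hwK⟩
  set aK : ↥K := ⟨qx ⟨a, hax⟩, haK⟩
  set gK : ↥K := ⟨qx ⟨r * f⁻¹, hgx⟩, hgK⟩
  have huo : orderOf uK = 2 := by rw [Subgroup.orderOf_mk]; exact hord C.mem C.ne_one
  have hwo : orderOf wK = 2 := by rw [Subgroup.orderOf_mk]; exact hord hw hw1
  obtain ⟨E₁, E₂, hc⟩ := hJR.centralizer uK huo
  have hlt : Nat.card ↥K < Nat.card G :=
    card_subgroup_quotient_lt (Cent.centralizer_ne_top C.jr hx1) _ K
  obtain ⟨F, i1, i2, ⟨e⟩, hF⟩ := order_of_smaller hO hIH hlt hJR huo hc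
  have hE12 : E₁ = E₂ := hIH ↥K hlt hJR uK huo E₁ E₂ hc
  have hw2 : wK ∈ E₁ := by
    have h1 : (wK : JRCore.Quo (centralizer ({x} : Set G))) ∈ Cent.fixedBar E₀ x :=
      Cent.mem_fixedBar.2 ⟨⟨w, hwx⟩, hwE, rfl⟩
    rw [← huniq uK rfl E₁ E₂ hc] at h1
    obtain ⟨y, hy, hye⟩ := h1
    rw [hE12]
    rwa [← Subtype.ext (a2 := wK) hye]
  let cfg : Cfg ↥K F uK :=
    ⟨huo, E₁, hc.1, (MulEquiv.subgroupCongr hE12).trans e⟩
  haveI := hJR.simple
  have hab : ∀ P : Sylow 2 ↥K, ∀ p q : P, p * q = q * p := fun P p q => by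
    haveI := (hJR.elementary P).1; exact mul_comm' p q
  have hsize : (Fintype.card F % 8 = 3 ∨ Fintype.card F % 8 = 5) ∧ 11 ≤ Fintype.card F := by
    rcases hF with ⟨k, hk, hkc, -⟩ | ⟨h5, -⟩
    · exact ⟨Or.inl (hkc ▸ (three_pow_odd_mod k).1),
        le_trans (by norm_num) (hkc ▸ (three_pow_odd_mod k).2 hk)⟩
    · exfalso
      obtain ⟨eL⟩ := Cent.fixedBar_equiv C.jr C.ord C.mem C.cent hxS hxo
      have hLF : Nat.card ↥(E₀ ⊓ centralizer ({x} : Set G)) =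
          Nat.card (Matrix.ProjectiveSpecialLinearGroup (Fin 2) F) := by
        rw [Nat.card_congr eL.toEquiv, ← huniq uK rfl E₁ E₂ hc,
          Subgroup.card_map_of_injective K.subtype_injective, Nat.card_congr e.toEquiv]
      have h2 := Linear.two_mul_card_PSL_two_of_odd (F := F) (by rw [h5]; decide)
      rw [← hLF, h5] at h2
      omega
  have hmap : ∀ {p q : G} (hp : p ∈ centralizer ({x} : Set G)) (hq : q ∈ centralizer ({x} : Set G)),
      Commute p q → qx ⟨p, hp⟩ * qx ⟨q, hq⟩ = qx ⟨q, hq⟩ * qx ⟨p, hp⟩ := fun hp hq hc => by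
    rw [← map_mul, ← map_mul]; exact congrArg qx (Subtype.ext hc.eq)
  have haT := C.torus_comm_pair hw hwE hw1 ha.1
  have hao : Odd (orderOf aK) := by
    rw [Subgroup.orderOf_mk]
    have := orderOf_map_dvd qx (⟨a, hax⟩ : ↥(centralizer ({x} : Set G)))
    rw [Subgroup.orderOf_mk] at this
    exact (odd_orderOf_mem (C.odd_torus hw hwE hw1) ha.1).of_dvd_nat this
  have hconj : ∀ {p q : G} (hp : p ∈ centralizer ({x} : Set G)) (hq : q ∈ centralizer ({x} : Set G)),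
      r * f⁻¹ * p * (r * f⁻¹)⁻¹ = q →
        qx ⟨r * f⁻¹, hgx⟩ * qx ⟨p, hp⟩ * (qx ⟨r * f⁻¹, hgx⟩)⁻¹ = qx ⟨q, hq⟩ := fun hp hq he => by
    rw [← map_inv, ← map_mul, ← map_mul]; exact congrArg qx (Subtype.ext he)
  have hmulK : qx ⟨u * w, mul_mem hux hwx⟩ = qx ⟨u, hux⟩ * qx ⟨w, hwx⟩ := by
    rw [← map_mul]; rfl
  have h1 := no_fused_pair cfg hab hsize.1 hsize.2 (s := wK) (a := aK) (g := gK) hw2 hwo
    (Subtype.ext (hmap hax hux haT.1)) (Subtype.ext (hmap hax hwx haT.2)) hao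
    (Subtype.ext (hconj hux hwx hgu)) (Subtype.ext ((hconj hwx (mul_mem hux hwx) hgw).trans hmulK))
    (Subtype.ext (hmap hgx hax hga))
  have h2 : qx ⟨a, hax⟩ = 1 := congrArg Subtype.val h1
  have h3 : a ∈ zpowers x ⊓ E₀ := by
    refine mem_inf.2 ⟨?_, C.torus_le_E₀ hw hwE hw1 ha.1⟩
    rw [← Cent.coreIn_centralizer_eq C.jr hxS hxo]
    exact (JRCore.qm_eq_one_iff hax).1 h2
  have h4 : a ∈ fieldPart S ⊓ E₀ := ⟨zpowers_le.2 hx h3.1, h3.2⟩
  rwa [C.fieldPart_inf, mem_bot] at h4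

end Ctx

end Cfsg.Agent.Lib.Walter.NoField
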