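import Cfsg.Agent.Lib.Walter.NoField.BigTorus.Fixed

/-!
# Section Z, big case: `GSide.Cent` and `GSide.FixedOdd` for `C(u) = ⟨u⟩ × E`

`fixedOdd` (any case); `sideCent`: with `Q = q` and `c = |F|` in the big case.

Owner: helper66.
-/

set_option autoImplicit false
set_option linter.unusedSectionVars false
set_option linter.style.haveILetI false

universe u

namespace Cfsg.Agent.Lib.Walter.NoField

open Subgroup Walter66 Cfsg.Agent.Lib.JankoThompson

variable {G : Type u} [Group G] [Finite G]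

theorem card_centralizer_image {X : Type u} [Group X] (g : X) (s : Set X) :
    Nat.card ↥(centralizer s) = Nat.card ↥(centralizer ((fun z => g * z * g⁻¹) '' s)) := by
  refine Nat.card_congr
    { toFun := fun y => ⟨g * y * g⁻¹, mem_centralizer_iff.2 ?_⟩
      invFun := fun y => ⟨g⁻¹ * y * g, mem_centralizer_iff.2 fun z hz => ?_⟩
      left_inv := fun y => Subtype.ext (by group)
      right_inv := fun y => Subtype.ext (by group) }
  · rintro _ ⟨z, hz, rfl⟩
    calc g * z * g⁻¹ * (g * y * g⁻¹) = g * (z * y) * g⁻¹ := by group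
      _ = g * (y * z) * g⁻¹ := by rw [mem_centralizer_iff.1 y.2 z hz]
      _ = g * y * g⁻¹ * (g * z * g⁻¹) := by group
  · have h1 := mem_centralizer_iff.1 y.2 _ ⟨z, hz, rfl⟩
    calc z * (g⁻¹ * y * g) = g⁻¹ * (g * z * g⁻¹ * y) * g := by group
      _ = g⁻¹ * (y * (g * z * g⁻¹)) * g := by rw [h1]
      _ = g⁻¹ * y * g * z := by group

namespace Ctx

variable {S : Sylow 2 G} {u : G} {E E₀ : Subgroup G} (C : Ctx S u E E₀)
include C

/-- The hypothesis `FixedOdd` of the blocks. -/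
theorem fixedOdd : GSide.FixedOdd u := by
  intro S' hu n hn x hx ho
  have C' : Ctx S' u E E₀ := ⟨C.jr, C.ord, hu, C.cent⟩
  exact C'.comm_normalizer hn (C'.mem_fieldPart hx ho)

/-- `|E| = |E₀| |F|`. -/
theorem card_E : Nat.card ↥E = Nat.card ↥E₀ * Nat.card ↥(fieldPart S) := by
  let g : ↥E₀ × ↥(fieldPart S) → ↥E := fun p =>
    ⟨(p.1 : G) * p.2, mul_mem (C.conf.le p.1.2) (C.fieldPart_le p.2.2)⟩
  have hg : Function.Bijective g := by
    constructor
    · rintro ⟨⟨a, ha⟩, ⟨f, hf⟩⟩ ⟨⟨b, hb⟩, ⟨f', hf'⟩⟩ h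
      have h' : a * f = b * f' := congrArg Subtype.val h
      have h1 : b⁻¹ * a ∈ fieldPart S ⊓ E₀ := by
        refine mem_inf.2 ⟨?_, mul_mem (inv_mem hb) ha⟩
        rw [show b⁻¹ * a = f' * f⁻¹ by
          rw [eq_mul_inv_iff_mul_eq, mul_assoc, h', inv_mul_cancel_left]]
        exact mul_mem hf' (inv_mem hf)
      rw [C.fieldPart_inf, mem_bot] at h1
      obtain rfl : b = a := inv_mul_eq_one.1 h1
      obtain rfl : f = f' := mul_left_cancel h'
      rfl
    · rintro ⟨e, he⟩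
      obtain ⟨h, hh, f, hf, rfl⟩ := C.exists_mul he
      exact ⟨(⟨h, hh⟩, ⟨f, hf⟩), rfl⟩
  rw [← Nat.card_congr (Equiv.ofBijective g hg), Nat.card_prod]

/-- A 2-subgroup of `E` has order at most four. -/
theorem card_le_four {Q : Subgroup G} (hQ : IsPGroup 2 Q) (hQE : Q ≤ E) : Nat.card Q ≤ 4 := by
  haveI : Fact (Nat.Prime 2) := ⟨Nat.prime_two⟩
  have hu : zpowers u ≤ normalizer (Q : Set G) := zpowers_le.2 (mem_normalizer_iff.2 fun q => by
    refine ⟨fun hq => ?_, fun hq => ?_⟩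
    · rwa [show u * q * u⁻¹ = q by rw [← C.mem_cent q (hQE hq), mul_inv_cancel_right]]
    · have h1 : Commute (u * q * u⁻¹) u := C.mem_cent _ (hQE hq)
      have h2 : u⁻¹ * (u * q * u⁻¹) * u⁻¹⁻¹ = u * q * u⁻¹ := by
        rw [← h1.inv_right.eq, mul_inv_cancel_right]
      rw [show u⁻¹ * (u * q * u⁻¹) * u⁻¹⁻¹ = q by group] at h2
      rwa [← h2] at hq)
  have hz : IsPGroup 2 (zpowers u) :=
    IsPGroup.of_card (n := 1) (by rw [Nat.card_zpowers, C.ord, pow_one])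
  have hp : IsPGroup 2 (zpowers u ⊔ Q : Subgroup G) := hz.to_sup_of_normal_right' hQ hu
  have h8 := IsJR.card_le C.jr hp
  have hlt : Nat.card Q < Nat.card ↥(zpowers u ⊔ Q) := by
    refine lt_of_le_of_ne (card_le_of_le le_sup_right) fun h => ?_
    have := eq_of_le_of_card_ge (le_sup_right : Q ≤ zpowers u ⊔ Q) h.ge
    exact C.conf.not_mem (hQE (this ▸ mem_sup_left (mem_zpowers u)))
  obtain ⟨i, hi⟩ := hQ.exists_card_eq
  rw [hi] at hlt ⊢
  rcases (show i ≤ 2 ∨ 3 ≤ i by omega) with h | h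
  · calc 2 ^ i ≤ 2 ^ 2 := Nat.pow_le_pow_right (by norm_num) h
      _ = 4 := by norm_num
  · have := Nat.pow_le_pow_right (show 0 < 2 by norm_num) h
    omega

theorem commute_inf {a b : G} (ha : a ∈ (S : Subgroup G) ⊓ E₀) (hb : b ∈ (S : Subgroup G) ⊓ E₀) :
    Commute a b := C.comm ha.1 hb.1

variable {w : G} (hw : w ∈ (S : Subgroup G)) (hwE : w ∈ E₀) (hw1 : w ≠ 1)
include hw hwE hw1

/-- `S ⊓ E₀` as a Sylow 2-subgroup of `E`. -/
theorem exists_sylow_E : ∃ P : Sylow 2 ↥E,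
    (P : Subgroup ↥E) = ((S : Subgroup G) ⊓ E₀).subgroupOf E := by
  haveI : Fact (Nat.Prime 2) := ⟨Nat.prime_two⟩
  have hle : (S : Subgroup G) ⊓ E₀ ≤ E := inf_le_right.trans C.conf.le
  obtain ⟨P, hP⟩ := ((S.isPGroup'.to_le (inf_le_left : (S : Subgroup G) ⊓ E₀ ≤ _)).of_equiv
    (subgroupOfEquivOfLe hle).symm).exists_le_sylow
  refine ⟨P, (eq_of_le_of_card_ge hP ?_).symm⟩
  rw [Nat.card_congr (subgroupOfEquivOfLe hle).toEquiv, C.card_inf_sylow hw hwE hw1,
    ← Subgroup.card_map_of_injective E.subtype_injective]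
  exact C.card_le_four (P.isPGroup'.map _) (map_subtype_le _)

theorem sylow_E_card (P : Sylow 2 ↥E) : Nat.card ↥(P : Subgroup ↥E) = 4 := by
  haveI : Fact (Nat.Prime 2) := ⟨Nat.prime_two⟩
  obtain ⟨P₀, hP₀⟩ := C.exists_sylow_E hw hwE hw1
  rw [Nat.card_congr (Sylow.equiv P P₀).toEquiv, hP₀,
    Nat.card_congr (subgroupOfEquivOfLe (inf_le_right.trans C.conf.le :
      (S : Subgroup G) ⊓ E₀ ≤ E)).toEquiv, C.card_inf_sylow hw hwE hw1]

theorem sylow_E_sq (P : Sylow 2 ↥E) {x : ↥E} (hx : x ∈ (P : Subgroup ↥E)) : x * x = 1 := by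
  haveI : Fact (Nat.Prime 2) := ⟨Nat.prime_two⟩
  obtain ⟨P', hP'⟩ := (P.isPGroup'.map E.subtype).exists_le_sylow
  exact Subtype.ext (IsJR.sq_mem C.jr P' (hP' ⟨x, hx, rfl⟩))

/-- An involution of `E` is conjugate to `w` in `E`. -/
theorem conj_w_E {x : ↥E} (hx : orderOf x = 2) : IsConj x (⟨w, C.conf.le hwE⟩ : ↥E) := by
  haveI : Fact (Nat.Prime 2) := ⟨Nat.prime_two⟩
  obtain ⟨P₀, hP₀⟩ := C.exists_sylow_E hw hwE hw1
  obtain ⟨Q, hQ⟩ := (IsPGroup.of_card (p := 2) (G := ↥(zpowers x)) (n := 1)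
    (by rw [Nat.card_zpowers, hx, pow_one])).exists_le_sylow
  obtain ⟨g, hg⟩ := MulAction.exists_smul_eq ↥E Q P₀
  have hgx : g * x * g⁻¹ ∈ (P₀ : Subgroup ↥E) := by
    rw [← hg, Sylow.coe_subgroup_smul]
    exact Subgroup.smul_mem_pointwise_smul (a := MulAut.conj g) x _ (hQ (mem_zpowers x))
  refine (show IsConj x (g * x * g⁻¹) from isConj_iff.2 ⟨g, rfl⟩).trans ?_
  rw [hP₀, mem_subgroupOf] at hgx
  set y := g * x * g⁻¹
  have hy1 : (y : G) ≠ 1 := fun h => by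
    have h' : y = 1 := Subtype.ext h
    rw [conj_eq_one_iff.1 h', orderOf_one] at hx
    norm_num at hx
  obtain ⟨v, r, T, hv⟩ := C.exists_tri_at hw hwE hw1
  set r' : ↥E := ⟨r, C.conf.le T.rmem⟩
  rcases C.inf_cases T hw hv hgx.1 y.2 with h | h | h | h
  · exact absurd h hy1
  · rw [show y = ⟨w, C.conf.le hwE⟩ from Subtype.ext h]
  · exact isConj_iff.2 ⟨r', Subtype.ext (by
      show r * (y : G) * r⁻¹ = w
      rw [h, T.cb])⟩
  · exact isConj_iff.2 ⟨r' * r', Subtype.ext (by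
      show r * r * (y : G) * (r * r)⁻¹ = w
      rw [show r * r * (y : G) * (r * r)⁻¹ = r * (r * y * r⁻¹) * r⁻¹ by group, h, C.rot_ab T, T.cb])⟩

/-- `|C_E(w)| = 4 |O|`. -/
theorem card_cent_w : Nat.card ↥(centralizer ({⟨w, C.conf.le hwE⟩} : Set ↥E)) =
    4 * Nat.card ↥(pairCore u w) := by
  set wE : ↥E := ⟨w, C.conf.le hwE⟩
  let g : ↥(pairCore u w) × ↥((S : Subgroup G) ⊓ E₀) → ↥(centralizer ({wE} : Set ↥E)) := fun a =>
    ⟨⟨(a.1 : G) * a.2, mul_mem (C.pairCore_le_E hw hwE hw1 a.1.2) (C.conf.le a.2.2.2)⟩,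
      mem_centralizer_singleton_iff.2 (Subtype.ext (Commute.mul_left
        (mem_centralizer_pair.1 (pairCore_le u w a.1.2)).2 (C.comm a.2.2.1 hw)).eq)⟩
  have hg : Function.Bijective g := by
    constructor
    · rintro ⟨⟨a, ha⟩, ⟨s, hs⟩⟩ ⟨⟨b, hb⟩, ⟨s', hs'⟩⟩ h
      have h' : a * s = b * s' := congrArg (fun z => ((z.1 : ↥E) : G)) h
      have h1 : b⁻¹ * a = 1 :=
        JRBal.eq_one_of_sq_odd (odd_pairCore u w) (mul_mem (inv_mem hb) ha) (by
          rw [show b⁻¹ * a = s' * s⁻¹ by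
            rw [eq_mul_inv_iff_mul_eq, mul_assoc, h', inv_mul_cancel_left]]
          exact C.sq (mul_mem hs'.1 (inv_mem hs.1)))
      obtain rfl : b = a := inv_mul_eq_one.1 h1
      obtain rfl : s = s' := mul_left_cancel h'
      rfl
    · rintro ⟨⟨x, hx⟩, hxw⟩
      obtain ⟨o, ho, s, hs, rfl⟩ := C.exists_mul_pairCore hw hwE hw1 (mem_centralizer_pair.2
        ⟨C.mem_cent x hx, congrArg Subtype.val (mem_centralizer_singleton_iff.1 hxw)⟩)
      exact ⟨(⟨o, ho⟩, ⟨s, hs, C.mem_E₀_of_mem_E hs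
        ((E.mul_mem_cancel_left (C.pairCore_le_E hw hwE hw1 ho)).1 hx)⟩), rfl⟩
  rw [← Nat.card_congr (Equiv.ofBijective g hg), Nat.card_prod, C.card_inf_sylow hw hwE hw1,
    mul_comm]

/-- `|O| = |T| |F|`. -/
theorem card_pairCore : Nat.card ↥(pairCore u w) =
    Nat.card ↥(torus S u w) * Nat.card ↥(fieldPart S) := by
  let g : ↥(torus S u w) × ↥(fieldPart S) → ↥(pairCore u w) := fun a => ⟨(a.1 : G) * a.2,
    mul_mem (C.torus_le hw hwE hw1 a.1.2) (C.fieldPart_le_pairCore hw hwE hw1 a.2.2)⟩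
  have hg : Function.Bijective g := by
    constructor
    · rintro ⟨⟨a, ha⟩, ⟨f, hf⟩⟩ ⟨⟨b, hb⟩, ⟨f', hf'⟩⟩ h
      have h' : a * f = b * f' := congrArg Subtype.val h
      have h1 : b⁻¹ * a ∈ torus S u w ⊓ fieldPart S := by
        refine mem_inf.2 ⟨mul_mem (inv_mem hb) ha, ?_⟩
        rw [show b⁻¹ * a = f' * f⁻¹ by
          rw [eq_mul_inv_iff_mul_eq, mul_assoc, h', inv_mul_cancel_left]]
        exact mul_mem hf' (inv_mem hf)
      rw [C.torus_inf_fieldPart hw hwE hw1, mem_bot] at h1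
      obtain rfl : b = a := inv_mul_eq_one.1 h1
      obtain rfl : f = f' := mul_left_cancel h'
      rfl
    · rintro ⟨o, ho⟩
      obtain ⟨a, ha, f, hf, rfl⟩ := C.exists_mul_torus hw hwE hw1 ho
      exact ⟨(⟨a, ha⟩, ⟨f, hf⟩), rfl⟩
  rw [← Nat.card_congr (Equiv.ofBijective g hg), Nat.card_prod]

/-- `|C_E(S ⊓ E₀)| = 4 |F|`. -/
theorem card_cent_four : Nat.card ↥(centralizer
    ((((S : Subgroup G) ⊓ E₀).subgroupOf E : Subgroup ↥E) : Set ↥E)) =
    4 * Nat.card ↥(fieldPart S) := by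
  obtain ⟨v, r, T, hv⟩ := C.exists_tri_at hw hwE hw1
  let g : ↥(fieldPart S) × ↥((S : Subgroup G) ⊓ E₀) →
      ↥(centralizer ((((S : Subgroup G) ⊓ E₀).subgroupOf E : Subgroup ↥E) : Set ↥E)) := fun a =>
    ⟨⟨(a.1 : G) * a.2, mul_mem (C.fieldPart_le a.1.2) (C.conf.le a.2.2.2)⟩,
      mem_centralizer_iff.2 fun y hy => Subtype.ext (Commute.mul_right
        (comm_fieldPart_sylow a.1.2 (mem_subgroupOf.1 hy).1).symm
        (C.comm (mem_subgroupOf.1 hy).1 a.2.2.1)).eq⟩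
  have hg : Function.Bijective g := by
    constructor
    · rintro ⟨⟨f, hf⟩, ⟨s, hs⟩⟩ ⟨⟨f', hf'⟩, ⟨s', hs'⟩⟩ h
      have h' : f * s = f' * s' := congrArg (fun z => ((z.1 : ↥E) : G)) h
      have h1 : f'⁻¹ * f = 1 :=
        JRBal.eq_one_of_sq_odd (odd_fieldPart S) (mul_mem (inv_mem hf') hf) (by
          rw [show f'⁻¹ * f = s' * s⁻¹ by
            rw [eq_mul_inv_iff_mul_eq, mul_assoc, h', inv_mul_cancel_left]]
          exact C.sq (mul_mem hs'.1 (inv_mem hs.1)))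
      obtain rfl : f' = f := inv_mul_eq_one.1 h1
      obtain rfl : s = s' := mul_left_cancel h'
      rfl
    · rintro ⟨⟨x, hx⟩, hxc⟩
      have hxa : ∀ a, a ∈ (S : Subgroup G) ⊓ E₀ → x * a = a * x := fun a ha =>
        (congrArg Subtype.val (mem_centralizer_iff.1 hxc ⟨a, C.conf.le ha.2⟩
          (mem_subgroupOf.2 ha))).symm
      obtain ⟨f, hf, s, hs, rfl⟩ := C.exists_mul_fieldPart (C.mem_centralizer_of T hw hv
        (C.mem_cent x hx) (hxa w ⟨hw, hwE⟩) (hxa v ⟨hv, T.bmem⟩))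
      exact ⟨(⟨f, hf⟩, ⟨s, hs, C.mem_E₀_of_mem_E hs
        ((E.mul_mem_cancel_left (C.fieldPart_le hf)).1 hx)⟩), rfl⟩
  rw [← Nat.card_congr (Equiv.ofBijective g hg), Nat.card_prod, C.card_inf_sylow hw hwE hw1,
    mul_comm]

variable {k : ℕ} {K K₀ : Type} [Field K] [Fintype K] [Field K₀] [Fintype K₀]

/-- `E` satisfies the hypotheses of the blocks, with `Q = q` and `c = |F|`. -/
theorem sidePart (B : BigFields S E₀ k K K₀) :
    GSide.KleinPart E (Fintype.card K) (Nat.card ↥(fieldPart S)) := by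
  haveI : Fact (Nat.Prime 2) := ⟨Nat.prime_two⟩
  obtain ⟨φ⟩ := B.psl
  have h8 := B.card_mod
  have h27 := B.card_ge
  have hconj := fun x y (hx : orderOf (x : ↥E) = 2) (hy : orderOf (y : ↥E) = 2) =>
    (C.conj_w_E hw hwE hw1 hx).trans (C.conj_w_E hw hwE hw1 hy).symm
  refine
    { odd_c := odd_fieldPart S
      Q_mod := by omega
      Q_big := by rw [abs_of_nonneg (by positivity)]; omega
      klein := fun P => ?_
      conjK := hconj
      card := ?_
      cent := fun x hx => ?_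
      centP := fun P => ?_
      st := fun hQ => absurd hQ (not_lt.2 (Int.natCast_nonneg _)) }
  · exact Cfsg.Agent.Lib.TwoGroups.Recognition.isKleinFour_of_card (C.sylow_E_card hw hwE hw1 P)
      fun x hx => C.sylow_E_sq hw hwE hw1 P hx
  · have h := Linear.two_mul_card_PSL_two_of_odd (F := K) (Nat.odd_iff.2 (by omega))
    rw [← Nat.card_congr φ.toEquiv] at h
    have hcast : ((2 * Nat.card ↥E₀ : ℕ) : ℤ) =
        ((Fintype.card K * (Fintype.card K - 1) * (Fintype.card K + 1) : ℕ) : ℤ) := congrArg Nat.cast h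
    push_cast [Nat.cast_sub (show 1 ≤ Fintype.card K by omega)] at hcast
    have hq1 : (27 : ℤ) ≤ (Fintype.card K : ℤ) := by exact_mod_cast h27
    rw [C.card_E, abs_mul, abs_of_nonneg (Int.natCast_nonneg _),
      abs_of_nonneg (by nlinarith : (0 : ℤ) ≤ (Fintype.card K : ℤ) ^ 2 - 1)]
    push_cast
    linear_combination (Nat.card ↥(fieldPart S) : ℤ) * hcast
  · obtain ⟨g, hg⟩ := isConj_iff.1 (C.conj_w_E hw hwE hw1 hx)
    have he : Nat.card ↥(centralizer ({x} : Set ↥E)) =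
        Nat.card ↥(centralizer ({⟨w, C.conf.le hwE⟩} : Set ↥E)) := by
      rw [card_centralizer_image g {x}, Set.image_singleton, hg]
    rw [he, C.card_cent_w hw hwE hw1, C.card_pairCore hw hwE hw1,
      abs_of_nonneg (by positivity)]
    have h4 := C.four_mul_card_torus hw hwE hw1 B
    rw [← mul_assoc, h4]
    push_cast
    ring
  · obtain ⟨P₀, hP₀⟩ := C.exists_sylow_E hw hwE hw1
    obtain ⟨g, hg⟩ := MulAction.exists_smul_eq ↥E P P₀
    have he : Nat.card ↥(centralizer ((P : Subgroup ↥E) : Set ↥E)) =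
        Nat.card ↥(centralizer ((P₀ : Subgroup ↥E) : Set ↥E)) := by
      rw [card_centralizer_image g, ← hg, Sylow.coe_subgroup_smul]
      rfl
    rw [he, hP₀]
    exact_mod_cast C.card_cent_four hw hwE hw1

/-- The hypotheses `GSide.Cent` in the big case. -/
theorem sideCent (B : BigFields S E₀ k K K₀) :
    GSide.Cent u E (Fintype.card K) (Nat.card ↥(fieldPart S)) where
  simple := C.jr.simple
  card_sylow := C.jr.card_sylow
  elementary := C.jr.elementary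
  conjG := C.jr.conj
  ord := C.ord
  split := C.cent.1
  part := C.sidePart hw hwE hw1 B

end Ctx

end Cfsg.Agent.Lib.Walter.NoField
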