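import Cfsg.Agent.Lib.Walter.NoField.BigTorus.Cases
import Cfsg.Agent.Lib.Walter.NoField.Interface

/-!
# Section Z, big case: the centralisers of `C_T(F)` normalise `⟨u, w⟩`

In the `A₅` case of `cent_cases` the group `A₅` lives in `C(F)`; but by induction `C(x)` for
`1 ≠ x ∈ F` has, modulo `⟨x⟩`, a normal subgroup of odd index with the order of a Ree group,
which is prime to five.

Owner: helper66.
-/

set_option autoImplicit false
set_option linter.unusedSectionVars false
set_option linter.style.haveILetI false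

universe u

namespace Cfsg.Agent.Lib.Walter.NoField

open Subgroup Walter66

variable {G : Type u} [Group G] [Finite G]

theorem five_not_dvd_ree (k : ℕ) :
    ¬ 5 ∣ (3 ^ (2 * k + 1)) ^ 3 * ((3 ^ (2 * k + 1)) ^ 3 + 1) * (3 ^ (2 * k + 1) - 1) := by
  have h : 3 ^ (2 * k + 1) % 5 = 2 ∨ 3 ^ (2 * k + 1) % 5 = 3 := by
    induction k with
    | zero => norm_num
    | succ k ih =>
      rw [show 2 * (k + 1) + 1 = 2 * k + 1 + 2 by ring, pow_add, Nat.mul_mod]
      rcases ih with e | e <;> rw [e] <;> norm_num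
  have hp : Nat.Prime 5 := by norm_num
  intro hd
  set q := 3 ^ (2 * k + 1) with hq
  have h3 : q ^ 3 % 5 = 3 ∨ q ^ 3 % 5 = 2 := by
    rw [Nat.pow_mod]
    rcases h with e | e <;> rw [e] <;> norm_num
  have hq1 : 1 ≤ q := Nat.one_le_pow _ _ (by norm_num)
  rcases hp.dvd_mul.1 hd with h' | h'
  · rcases hp.dvd_mul.1 h' with h'' | h'' <;> omega
  · omega

/-- `C(x)` modulo its core has a normal subgroup of odd index of order prime to five. -/
theorem exists_ree_component (hK : PropKnown.{u}) (hL : PropKnownFacts.{u}) (hO : PropOrder.{u})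
    (hIH : SmallerNoField G) {S : Sylow 2 G} {t : G} {E E₀ : Subgroup G} (C : Ctx S t E E₀)
    {x : G} (hx : x ∈ fieldPart S) (hx1 : x ≠ 1)
    (hbig : 60 < Nat.card ↥(E₀ ⊓ centralizer ({x} : Set G))) :
    ∃ K : Subgroup (JRCore.Quo (centralizer ({x} : Set G))),
      K.Normal ∧ Odd K.index ∧ ¬ 5 ∣ Nat.card ↥K := by
  haveI : Fact (Nat.Prime 2) := ⟨Nat.prime_two⟩
  have hxS := fieldPart_le_centralizer S hx
  have hxo : Odd (orderOf x) := odd_orderOf_mem (odd_fieldPart S) hx
  obtain ⟨_, _, _, _, _, _, -, -, -, -, -, -, h⟩ :=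
    Cent.fixed_cases C.jr C.ord C.mem C.cent hxS hxo
  rcases h with ⟨-, h⟩ | ⟨-, hodd⟩
  · omega
  obtain ⟨K, -, hKn, hKi, -, hTK, -, hJR, huniq⟩ :=
    Cent.centralizer_large C.jr C.ord C.mem C.cent hxS hxo hK hL hx1 hodd
  refine ⟨K, hKn, hKi, ?_⟩
  set v : ↥K := ⟨_, hTK (JRCore.qm_mem_quoSylow (Cent.sylow_le_centralizer hxS) C.mem)⟩ with hvdef
  have hv : orderOf v = 2 := by
    refine orderOf_eq_prime (Subtype.ext ?_) fun h => ?_
    · show JRCore.qm _ ⟨t, Cent.sylow_le_centralizer hxS C.mem⟩ ^ 2 = 1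
      have h1 := congrArg (JRCore.qm (centralizer ({x} : Set G)))
        (Subtype.ext (show t ^ 2 = 1 by rw [← C.ord, pow_orderOf_eq_one]) :
          (⟨t, Cent.sylow_le_centralizer hxS C.mem⟩ : ↥(centralizer ({x} : Set G))) ^ 2 = 1)
      rwa [map_pow, map_one] at h1
    · exact JRCore.qm_ne_one (Cent.sylow_le_centralizer hxS) C.mem (Walter66.ne_one_of_ord C.ord)
        (congrArg Subtype.val h)
  obtain ⟨E', E₀', h'⟩ := hJR.centralizer v hv
  have hlt : Nat.card ↥K < Nat.card G :=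
    card_subgroup_quotient_lt (Cent.centralizer_ne_top C.jr hx1) _ K
  obtain ⟨F, i1, i2, ⟨e⟩, hF⟩ := order_of_smaller hO hIH hlt hJR hv h'
  rcases hF with ⟨k, -, -, hc⟩ | ⟨h5, -⟩
  · rw [hc]; exact five_not_dvd_ree k
  · exfalso
    obtain ⟨eL⟩ := Cent.fixedBar_equiv C.jr C.ord C.mem C.cent hxS hxo
    have hLF : Nat.card ↥(E₀ ⊓ centralizer ({x} : Set G)) =
        Nat.card (Matrix.ProjectiveSpecialLinearGroup (Fin 2) F) := by
      rw [Nat.card_congr eL.toEquiv, ← huniq v rfl E' E₀' h',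
        Subgroup.card_map_of_injective K.subtype_injective, Nat.card_congr e.toEquiv]
    have h2 := Linear.two_mul_card_PSL_two_of_odd (F := F) (by rw [h5]; decide)
    rw [← hLF, h5] at h2
    omega

namespace Ctx

variable {S : Sylow 2 G} {u : G} {E E₀ : Subgroup G} (C : Ctx S u E E₀)
include C

variable {w : G} (hw : w ∈ (S : Subgroup G)) (hwE : w ∈ E₀) (hw1 : w ≠ 1)
include hw hwE hw1

/-- The centralisers of the non-trivial elements of `C_T(F)` normalise `⟨u, w⟩`. -/
theorem cent_fixedTorus (hK : PropKnown.{u}) (hL : PropKnownFacts.{u}) (hO : PropOrder.{u})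
    (hIH : SmallerNoField G) {x : G} (hx : x ∈ fieldPart S) (hx1 : x ≠ 1)
    (hbig : 60 < Nat.card ↥(E₀ ⊓ centralizer ({x} : Set G)))
    {a : G} (ha : a ∈ fixedTorus S u w) (ha1 : a ≠ 1) {g : G} (hg : Commute g a) {p : G}
    (hp : p ∈ closure ({u, w} : Set G)) : g * p * g⁻¹ ∈ closure ({u, w} : Set G) := by
  have hcases := C.cent_cases hw hwE hw1 ha ha1
  set H := centralizer ({a} : Set G) with hHdef
  rcases hcases with h | ⟨f, hfs, hfY, hmap⟩
  · exact h g hg p hp
  exfalso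
  obtain ⟨K, hKn, hKi, hK5⟩ := exists_ree_component hK hL hO hIH C hx hx1 hbig
  haveI := hKn
  let D : Subgroup ↥H := centralizer ((pairCore u w).subgroupOf H : Set ↥H)
  have hxO : x ∈ pairCore u w := C.fieldPart_le_pairCore hw hwE hw1 hx
  have hxH : x ∈ H := mem_centralizer_singleton_iff.2 (C.comm_fixedTorus hw hwE hw1 ha hxO).symm.eq
  have hDx : ∀ d : ↥D, ((d : ↥H) : G) ∈ centralizer ({x} : Set G) := fun d =>
    mem_centralizer_singleton_iff.2
      (congrArg Subtype.val (mem_centralizer_iff.1 d.2 ⟨x, hxH⟩ hxO)).symm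
  let ι : ↥D →* ↥(centralizer ({x} : Set G)) := (H.subtype.comp D.subtype).codRestrict _ hDx
  let ψ : ↥D →* JRCore.Quo (centralizer ({x} : Set G)) := (JRCore.qm _).comp ι
  let χ := (QuotientGroup.mk' K).comp ψ
  let φ : ↥D →* alternatingGroup (Fin 5) := f.comp D.subtype
  have hφ : Function.Surjective φ := fun z => by
    obtain ⟨d, hd, rfl⟩ : z ∈ D.map f := by rw [hmap]; exact mem_top z
    exact ⟨⟨d, hd⟩, rfl⟩
  have hψ : ψ.ker ≤ φ.ker := fun d hd => by
    have h1 : ((d : ↥H) : G) ∈ zpowers x := by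
      rw [← Cent.coreIn_centralizer_eq C.jr (fieldPart_le_centralizer S hx)
        (odd_orderOf_mem (odd_fieldPart S) hx)]
      exact (JRCore.qm_eq_one_iff (hDx d)).1 hd
    exact MonoidHom.mem_ker.2 ((hfY _).2 (zpowers_le.2 hxO h1))
  rcases (Normal.map (f := φ) (inferInstance : χ.ker.Normal) hφ).eq_bot_or_eq_top with hb | ht
  · -- `A₅` would be solvable
    have hle : χ.ker ≤ φ.ker := fun d hd => mem_bot.1 (hb ▸ mem_map_of_mem φ hd)
    haveI : Group.IsSolvable (JRCore.Quo (centralizer ({x} : Set G)) ⧸ K) :=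
      OddOrder.FeitThompson.isSolvable_of_odd_card (by rwa [← index_eq_card])
    haveI : Group.IsSolvable (↥D ⧸ χ.ker) :=
      Group.isSolvable_of_isSolvable_injective (f := QuotientGroup.kerLift χ)
        (QuotientGroup.kerLift_injective χ)
    haveI : Group.IsSolvable (alternatingGroup (Fin 5)) :=
      Group.isSolvable_of_surjective (f := QuotientGroup.lift χ.ker φ hle) fun z => by
        obtain ⟨d, rfl⟩ := hφ z
        exact ⟨d, rfl⟩
    have h : ∃ y z : alternatingGroup (Fin 5), y * z ≠ z * y := by decide +kernel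
    obtain ⟨y, z, h⟩ := h
    exact h (IsSimpleGroup.comm_iff_isSolvable.2 inferInstance y z)
  · obtain ⟨z, hz1, hz5⟩ : ∃ z : alternatingGroup (Fin 5), z ≠ 1 ∧ z * z * z * z * z = 1 := by
      decide +kernel
    obtain ⟨d, hd, hdz⟩ : z ∈ χ.ker.map φ := ht ▸ mem_top z
    haveI : Fact (Nat.Prime 5) := ⟨by norm_num⟩
    have hz : orderOf z = 5 := orderOf_eq_prime (by simpa [pow_succ] using hz5) hz1
    refine hK5 (hz ▸ (orderOf_dvd_of_pow_eq_one (n := orderOf (ψ d)) ?_).trans ?_)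
    · have h1 : φ (d ^ orderOf (ψ d)) = 1 := hψ (by
        show ψ (d ^ orderOf (ψ d)) = 1
        rw [map_pow, pow_orderOf_eq_one])
      rwa [map_pow, hdz] at h1
    · exact orderOf_dvd_natCard K ((QuotientGroup.eq_one_iff (ψ d)).1 hd)

end Ctx

end Cfsg.Agent.Lib.Walter.NoField
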