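import Cfsg.Agent.Lib.JankoThompson.GSide.TorusValues
import Cfsg.Agent.Lib.JankoThompson.TorusBridge
import Cfsg.Agent.Lib.Walter.NoField.BigPsi.Shape

/-!
# Section Z, big case: the coefficient data of the torus functions in every block

`exists_pairs`: for every linear character `lam` of `K` a table of its block in which the
coefficients of `Ind (ρ lam (1 - θ))` and `Ind (lam (1 - θ))` form a `BigPsi.Pair`.

Owner: helper66.
-/

set_option autoImplicit false
set_option linter.unusedSectionVars false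
set_option linter.style.haveILetI false

universe u

namespace Cfsg.Agent.Lib.Walter.NoField

open Subgroup Cfsg.Agent.Lib.JankoThompson
open scoped ComplexConjugate

variable {G : Type u} [Group G] [Fintype G] [Fintype (Cfsg.IrrCharacter G)] {t : G} {K : Subgroup G}
  [Fintype ↥K] {Q : ℤ}

/-- The conditions on the coefficients of a generalised character vanishing at `1` and `t`. -/
theorem sumsOf {g : Fin 3 → ↥K → ℂ} {X : GSide.BTab (Cfsg.IrrCharacter G)}
    (hX : GSide.IsTable t K Q g X) {f : G → ℂ} (hf : Cfsg.IsGeneralizedCharacter G f) (h1 : f 1 = 0)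
    (ht : f t = 0) {N sb : ℤ} {rhs : ℚ} (hN : Cfsg.classInner f f = N)
    (hsec : ∀ i, secCoeff t K f (g i) = if i = 0 then 0 else (sb : ℂ))
    (heq : ∑ χ : Cfsg.IrrCharacter G, Cfsg.classInner f χ * (χ : G → ℂ) t ^ 2 / (χ : G → ℂ) 1 =
      (rhs : ℂ)) : BigPsi.Sums X N sb rhs (coefFun f) := by
  have hs : ∀ (i : Fin 3) (z : Cfsg.IrrCharacter G → ℤ),
      (∀ χ, (z χ : ℂ) = secCoeff t K (χ : G → ℂ) (g i)) →
      ((∑ χ, coefFun f χ * z χ : ℤ) : ℂ) = if i = 0 then 0 else (sb : ℂ) := fun i z hz => by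
    push_cast
    simp only [hz]
    rw [sum_coefFun_secCoeff hf, hsec i]
  refine ⟨?_, ?_, ?_, ?_, ?_, ?_, ?_⟩
  · apply Int.cast_injective (α := ℂ)
    rw [sum_coefFun_mul hf hf, hN]
  · apply Int.cast_injective (α := ℂ)
    rw [hs 0 _ hX.ha, if_pos rfl, Int.cast_zero]
  · apply Int.cast_injective (α := ℂ)
    rw [hs 1 _ hX.hb, if_neg (by decide)]
  · apply Int.cast_injective (α := ℂ)
    rw [hs 2 _ hX.hc, if_neg (by decide)]
  · apply Int.cast_injective (α := ℂ)
    push_cast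
    simp only [hX.hd]
    rw [sum_coefFun_apply hf, h1]
  · apply Int.cast_injective (α := ℂ)
    push_cast
    simp only [hX.hT']
    rw [sum_coefFun_apply hf, ht]
  · apply Rat.cast_injective (α := ℂ)
    rw [← heq, Rat.cast_sum]
    refine Finset.sum_congr rfl fun χ _ => ?_
    push_cast
    rw [coefFun_spec hf, hX.hd, hX.hT']

variable {c : ℕ}

/-- Tables of all blocks with the data of the torus functions. -/
theorem exists_pairs (hC : GSide.Cent t K Q c) (hO : GSide.FixedOdd t) (D : GSide.TorusData t K)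
    (hQ : 4 < |Q + 1|) (hT : 4 * (Nat.card ↥D.T : ℤ) = |Q + 1|)
    (hU : Nat.card ↥D.U = c * Nat.card ↥D.T)
    (htw : ∀ lam : ↥K →* ℂˣ, D.IsTwist (lam.comp (Subgroup.inclusion D.U_le)))
    {θ : ↥D.U →* ℂˣ} (hθ : D.IsTheta θ) (hf : D.IsFree θ) :
    ∃ g : Fin 3 → ↥K → ℂ,
      (∀ i, Cfsg.classInner (g i) 1 = if i = 0 then 1 else 0) ∧
      (∀ lam : ↥K →* ℂˣ, lam ≠ 1 → ∀ i, Cfsg.classInner (g i) (fun k => (lam k : ℂ)) = 0) ∧
      ∀ lam : ↥K →* ℂˣ, ∃ X : GSide.BTab (Cfsg.IrrCharacter G),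
        GSide.IsTable t K Q (fun i k => g i k * (lam k : ℂ)) X ∧
        BigPsi.Pair X (coefFun (D.tiFun D.rho (lam.comp (Subgroup.inclusion D.U_le)) θ))
          (coefFun (D.tiFun 1 (lam.comp (Subgroup.inclusion D.U_le)) θ)) := by
  classical
  letI := Fintype.ofFinite ↥D.U
  letI := Fintype.ofFinite ↥D.V
  letI := Fintype.ofFinite ↥D.H₀
  obtain ⟨g, hg1, hgl, hg, hgU⟩ := GSide.exists_sep_torus hC hO
  refine ⟨g, hg1, hgl, fun lam => ?_⟩
  obtain ⟨X, hX⟩ := GSide.propBlock G t K Q c _ hC (hg lam).1 (hg lam).2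
  refine ⟨X, hX, ?_⟩
  obtain ⟨μ, hμ⟩ : ∃ μ, μ = lam.comp (Subgroup.inclusion D.U_le) := ⟨_, rfl⟩
  have hμt : D.IsTwist μ := hμ ▸ htw lam
  rw [← hμ]
  have hgen : ∀ ρ, Cfsg.IsGeneralizedCharacter G (D.tiFun ρ μ θ) := fun ρ => D.isGen_tiFun ρ μ θ
  have hsec : ∀ (ρ : ↥D.V →* ℂˣ) (i : Fin 3),
      secCoeff t K (D.tiFun ρ μ θ) (fun k => g i k * (lam k : ℂ)) =
        (if i = 0 then 0 else -1) * ∑ j : Fin 3, (ρ (D.posV j) : ℂ) := by
    intro ρ i
    rw [D.secCoeff_tiFun_of_sum hμt hθ ((hg lam).1.class_fn i) ((hg lam).1.supp i)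
      (κ := if i = 0 then 0 else -2) fun η hη => by subst hμ; exact hgU hQ D lam η hη i]
    split_ifs <;> ring
  refine ⟨?_, ?_, ?_⟩
  · refine sumsOf hX (hgen _) (D.indFun_one_eq (hθ.support_of_ne _ _))
      (D.indFun_t_eq (hθ.support_of_ne _ _)) ?_ (fun i => ?_) ?_
    · rw [D.norm_rho hμt hθ]; norm_num
    · rw [hsec, D.sum_rho_pos]
      split_ifs <;> norm_num
    · rw [D.sum_sq_tiFun hμt hθ, D.sum_rho, mul_zero, Rat.cast_zero]
  · refine sumsOf hX (hgen _) (D.indFun_one_eq (hθ.support_of_ne _ _))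
      (D.indFun_t_eq (hθ.support_of_ne _ _)) ?_ (fun i => ?_) ?_
    · rw [D.norm_one hμt hθ hf]; norm_num
    · rw [hsec]
      simp only [MonoidHom.one_apply, Units.val_one, Finset.sum_const, Finset.card_univ,
        Fintype.card_fin, nsmul_eq_mul, mul_one]
      split_ifs <;> norm_num
    · rw [D.sum_sq_one hμt hθ hC.part.card hT hU, hX.hK, hX.hQ]
      push_cast
      rfl
  · apply Int.cast_injective (α := ℂ)
    rw [sum_coefFun_mul (hgen _) (hgen _), D.inner_rho_one hμt hθ hθ, Int.cast_zero]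

end Cfsg.Agent.Lib.Walter.NoField
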